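import Cfsg.Agent.OddHalf.D5.Defs
import Cfsg.Agent.OddHalf.D5.TForm
import Cfsg.Agent.OddHalf.D5.Sym.MatchPerm
import Cfsg.Agent.OddHalf.D5.Disj

-- merged: Cfsg.Agent.OddHalf.D5.SymOdd
section

/-!
# ODD D5, `C_G(t) = ⟨t⟩ × S_n`, `n ≥ 8`: `t` is conjugate to `t a` for some even `a ≠ 1`

Otherwise all the conjugates `≠ t` of `t` in `C_G(t) = ⟨t⟩ × S_n` are of the form `a` or `t a`, `a` odd (`D ∩ A_n` is
empty). For `q ∈ D` let `s_q` be the sign character of `C_G(q)`. Then `s_q(k) = -1` for all `k ∈ C(q)`, `k ≠ 1` with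
`q k ∈ D`. If `q = t^i a` with `a` a product of at least three transpositions, there are commuting `k, k' ∈ C(q)` with
`q k`, `q k'`, `q k k'` in `D`: impossible. So `a` is a transposition; the T-formula for the two characters of
`C_G(t)` with `t ↦ -1` gives `t e ∈ D` and `e ∈ D` (`e` a transposition), and `q = t e`, `k = t`, `k' = e f` is
another such triple.
-/

set_option autoImplicit false

namespace Cfsg.Agent.OddHalf.D5.SymOdd

open Subgroup Equiv

variable {G : Type*} [Group G] {n : ℕ} {t : G} {ι : (⊤ : Subgroup (Perm (Fin n))) →* G}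

/-- a permutation as an element of `⊤` -/
def up (a : Perm (Fin n)) : (⊤ : Subgroup (Perm (Fin n))) := ⟨a, mem_top a⟩

theorem up_mul (a b : Perm (Fin n)) : up (a * b) = up a * up b := rfl

theorem up_one : up (1 : Perm (Fin n)) = 1 := rfl

theorem up_inv (a : Perm (Fin n)) : up a⁻¹ = (up a)⁻¹ := rfl

theorem up_coe (a : (⊤ : Subgroup (Perm (Fin n)))) : up (a : Perm (Fin n)) = a := rfl

theorem up_inj {a b : Perm (Fin n)} (h : up a = up b) : a = b := congrArg Subtype.val h

/-- the two projections of `C_G(t) = ⟨t⟩ × S_n` -/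
theorem exists_proj (h : Spl t ⊤ ι) :
    ∃ (p : centralizer ({t} : Set G) →* Perm (Fin n)) (τ : centralizer ({t} : Set G) →* ℤˣ),
      ∀ x : centralizer ({t} : Set G), (x : G) = (if τ x = 1 then 1 else t) * ι (up (p x)) := by
  classical
  have h1 : (-1 : ℤˣ) ≠ 1 := by decide
  have h2 : (-1 : ℤˣ) * -1 = 1 := by decide
  let f : ℤˣ × (⊤ : Subgroup (Perm (Fin n))) →* G :=
    { toFun := fun x => (if x.1 = 1 then 1 else t) * ι x.2
      map_one' := by simp
      map_mul' := by
        rintro ⟨e, a⟩ ⟨e', b⟩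
        rcases Int.units_eq_one_or e with he | he <;> rcases Int.units_eq_one_or e' with he' | he'
        · simp [he, he']
        · simp only [he, he', Prod.mk_mul_mk, one_mul, if_neg h1, if_true, map_mul]
          rw [← mul_assoc, h.comm a, mul_assoc]
        · simp only [he, he', Prod.mk_mul_mk, one_mul, mul_one, if_neg h1, if_true, map_mul, mul_assoc]
        · simp only [he, he', Prod.mk_mul_mk, one_mul, if_neg h1, if_true, map_mul, h2]
          calc ι a * ι b = (t * t) * ι a * ι b := by rw [h.tt, one_mul]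
            _ = t * (t * ι a) * ι b := by group
            _ = t * (ι a * t) * ι b := by rw [h.comm a]
            _ = t * ι a * (t * ι b) := by group }
  have hf : ∀ x, f x = (if x.1 = 1 then 1 else t) * ι x.2 := fun _ => rfl
  have hmem : ∀ x, f x ∈ centralizer ({t} : Set G) := by
    rintro ⟨e, a⟩
    rw [mem_centralizer_singleton_iff, hf]
    rcases Int.units_eq_one_or e with he | he
    · simp only [he, if_true, one_mul]; exact h.comm' a
    · simp only [he, if_neg h1]
      rw [mul_assoc, ← h.comm a]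
  let F : ℤˣ × (⊤ : Subgroup (Perm (Fin n))) →* centralizer ({t} : Set G) := f.codRestrict _ hmem
  have hFc : ∀ x, (F x : G) = (if x.1 = 1 then 1 else t) * ι x.2 := fun _ => rfl
  have hF : Function.Bijective F := by
    constructor
    · rintro ⟨e, a⟩ ⟨e', b⟩ hab
      have hab' : (F (e, a) : G) = F (e', b) := congrArg Subtype.val hab
      rw [hFc, hFc] at hab'
      rcases Int.units_eq_one_or e with he | he <;> rcases Int.units_eq_one_or e' with he' | he'
      · simp only [he, he', if_true, one_mul] at hab'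
        rw [he, he', h.inj hab']
      · simp only [he, he', if_true, one_mul, if_neg h1] at hab'
        exact absurd hab' (h.tne _ _)
      · simp only [he, he', if_true, one_mul, if_neg h1] at hab'
        exact absurd hab'.symm (h.tne _ _)
      · simp only [he, he', if_neg h1] at hab'
        rw [he, he', h.inj (mul_left_cancel hab')]
    · rintro ⟨x, hx⟩
      obtain ⟨a, ha | ha⟩ := h.cases (mem_centralizer_singleton_iff.1 hx)
      · refine ⟨(1, a), Subtype.ext ?_⟩
        rw [hFc, if_pos rfl, one_mul]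
        exact ha.symm
      · refine ⟨(-1, a), Subtype.ext ?_⟩
        rw [hFc, if_neg h1]
        exact ha.symm
  let E := MulEquiv.ofBijective F hF
  refine ⟨(⊤ : Subgroup (Perm (Fin n))).subtype.comp ((MonoidHom.snd _ _).comp E.symm.toMonoidHom),
    (MonoidHom.fst _ _).comp E.symm.toMonoidHom, ?_⟩
  intro x
  have h3 : F (E.symm x) = x := E.apply_symm_apply x
  have h4 : (x : G) = F (E.symm x) := by rw [h3]
  exact h4.trans (hFc _)

/-- The projections. -/
structure Pr (t : G) (ι : (⊤ : Subgroup (Perm (Fin n))) →* G) (p : centralizer ({t} : Set G) →* Perm (Fin n))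
    (τ : centralizer ({t} : Set G) →* ℤˣ) : Prop where
  spl : Spl t ⊤ ι
  eq : ∀ x : centralizer ({t} : Set G), (x : G) = (if τ x = 1 then 1 else t) * ι (up (p x))

namespace Pr

variable {p : centralizer ({t} : Set G) →* Perm (Fin n)} {τ : centralizer ({t} : Set G) →* ℤˣ}

theorem of_iota (P : Pr t ι p τ) {x : centralizer ({t} : Set G)} {a : Perm (Fin n)} (hx : (x : G) = ι (up a)) :
    p x = a ∧ τ x = 1 := by
  have h1 := P.eq x
  rcases Int.units_eq_one_or (τ x) with h | h
  · rw [h, if_pos rfl, one_mul, hx] at h1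
    exact ⟨(up_inj (P.spl.inj h1)).symm, h⟩
  · rw [h, if_neg (by decide), hx] at h1
    exact absurd h1 (P.spl.tne _ _)

theorem of_t_iota (P : Pr t ι p τ) {x : centralizer ({t} : Set G)} {a : Perm (Fin n)}
    (hx : (x : G) = t * ι (up a)) : p x = a ∧ τ x = -1 := by
  have h1 := P.eq x
  rcases Int.units_eq_one_or (τ x) with h | h
  · rw [h, if_pos rfl, one_mul, hx] at h1
    exact absurd h1.symm (P.spl.tne _ _)
  · rw [h, if_neg (by decide), hx] at h1
    exact ⟨(up_inj (P.spl.inj (mul_left_cancel h1))).symm, h⟩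

end Pr

/-- hypotheses: all the conjugates `≠ t` of `t` in `C(t)` are odd -/
structure Odd (t : G) (ι : (⊤ : Subgroup (Perm (Fin n))) →* G) : Prop where
  spl : Spl t ⊤ ι
  hK : ∀ a : Perm (Fin n), Perm.sign a = 1 → ¬ IsConj t (ι (up a))
  hB : ∀ a : Perm (Fin n), Perm.sign a = 1 → a ≠ 1 → ¬ IsConj t (t * ι (up a))

namespace Odd

variable {p : centralizer ({t} : Set G) →* Perm (Fin n)} {τ : centralizer ({t} : Set G) →* ℤˣ}

theorem sign_eq (O : Odd t ι) (P : Pr t ι p τ) {y : centralizer ({t} : Set G)} (hy : IsConj t (y : G))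
    (hyt : (y : G) ≠ t) : Perm.sign (p y) = -1 := by
  rcases Int.units_eq_one_or (Perm.sign (p y)) with hs | hs
  · exfalso
    have h1 := P.eq y
    rcases Int.units_eq_one_or (τ y) with h | h
    · rw [h, if_pos rfl, one_mul] at h1
      rw [h1] at hy
      exact O.hK _ hs hy
    · rw [h, if_neg (by decide)] at h1
      by_cases h2 : p y = 1
      · apply hyt
        rw [h1, h2, up_one, map_one, mul_one]
      · rw [h1] at hy
        exact O.hB _ hs h2 hy
  · exact hs

/-- **the basic contradiction** -/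
theorem no_triple (O : Odd t ι) {q k k' : G} (hq : IsConj t q) (hk : k * q = q * k) (hk' : k' * q = q * k')
    (k1 : k ≠ 1) (k1' : k' ≠ 1) (k1'' : k * k' ≠ 1) (h1 : IsConj t (q * k)) (h2 : IsConj t (q * k'))
    (h3 : IsConj t (q * (k * k'))) : False := by
  obtain ⟨p, τ, hpτ⟩ := exists_proj O.spl
  have P : Pr t ι p τ := ⟨O.spl, hpτ⟩
  obtain ⟨g, hg⟩ := isConj_iff.1 hq.symm
  -- `g q g⁻¹ = t`
  have key : ∀ m : G, m * q = q * m → g * m * g⁻¹ ∈ centralizer ({t} : Set G) := by
    intro m hm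
    rw [mem_centralizer_singleton_iff, ← hg]
    calc g * m * g⁻¹ * (g * q * g⁻¹) = g * (m * q) * g⁻¹ := by group
      _ = g * (q * m) * g⁻¹ := by rw [hm]
      _ = g * q * g⁻¹ * (g * m * g⁻¹) := by group
  have htc : t ∈ centralizer ({t} : Set G) := mem_centralizer_singleton_iff.2 rfl
  have hpt : p ⟨t, htc⟩ = 1 := by
    refine (P.of_t_iota (a := 1) ?_).1
    rw [up_one, map_one, mul_one]
  have main : ∀ m : G, ∀ hm : m * q = q * m, m ≠ 1 → IsConj t (q * m) →
      Perm.sign (p ⟨g * m * g⁻¹, key m hm⟩) = -1 := by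
    intro m hm m1 hqm
    have e1 : t * (g * m * g⁻¹) = g * (q * m) * g⁻¹ := by rw [← hg]; group
    have h4 := O.sign_eq P (y := ⟨t, htc⟩ * ⟨g * m * g⁻¹, key m hm⟩) (by
      show IsConj t (t * (g * m * g⁻¹))
      rw [e1]
      exact hqm.trans (isConj_iff.2 ⟨g, rfl⟩)) (by
      show t * (g * m * g⁻¹) ≠ t
      intro h5
      apply m1
      have h6 : g * m * g⁻¹ = 1 := mul_eq_left.1 h5
      rwa [conj_eq_one_iff] at h6)
    rwa [map_mul, hpt, one_mul] at h4
  have hkk : k * k' * q = q * (k * k') := by rw [mul_assoc, hk', ← mul_assoc, hk, mul_assoc]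
  have e1 := main k hk k1 h1
  have e2 := main k' hk' k1' h2
  have e3 := main (k * k') hkk k1'' h3
  have e4 : (⟨g * (k * k') * g⁻¹, key _ hkk⟩ : centralizer ({t} : Set G)) =
      ⟨g * k * g⁻¹, key k hk⟩ * ⟨g * k' * g⁻¹, key k' hk'⟩ := by
    apply Subtype.ext
    show g * (k * k') * g⁻¹ = g * k * g⁻¹ * (g * k' * g⁻¹)
    group
  rw [e4, map_mul, Perm.sign_mul, e1, e2] at e3
  exact absurd e3 (by decide)

/-- the same for permutations -/
theorem no_perm (O : Odd t ι) {i : G} (hi : i = 1 ∨ i = t) {a c c' u u' w : Perm (Fin n)}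
    (hq : IsConj t (i * ι (up a))) (aa : a * a = 1)
    (cc : c * c = 1) (cc' : c' * c' = 1) (c1 : c ≠ 1) (c1' : c' ≠ 1) (c1'' : c * c' ≠ 1)
    (hu : a * c = u * a * u⁻¹) (hu' : a * c' = u' * a * u'⁻¹) (hw : a * (c * c') = w * a * w⁻¹) : False := by
  have hit : ∀ b, i * ι b = ι b * i := by
    intro b
    rcases hi with rfl | rfl
    · rw [one_mul, mul_one]
    · exact O.spl.comm b
  have hconj : ∀ b v : Perm (Fin n), a * b = v * a * v⁻¹ → IsConj t (i * ι (up a) * ι (up b)) := by
    intro b v hv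
    refine hq.trans (isConj_iff.2 ⟨ι (up v), ?_⟩)
    rw [mul_assoc i, ← map_mul, ← up_mul, hv, up_mul, up_mul, up_inv, map_mul, map_mul, map_inv]
    calc ι (up v) * (i * ι (up a)) * (ι (up v))⁻¹ = (ι (up v) * i) * ι (up a) * (ι (up v))⁻¹ := by group
      _ = (i * ι (up v)) * ι (up a) * (ι (up v))⁻¹ := by rw [hit]
      _ = i * (ι (up v) * ι (up a) * (ι (up v))⁻¹) := by group
  have hcomm : ∀ b v : Perm (Fin n), b * b = 1 → a * b = v * a * v⁻¹ →
      ι (up b) * (i * ι (up a)) = i * ι (up a) * ι (up b) := by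
    intro b v hb hv
    have h1 : a * b * (a * b) = 1 := by
      rw [hv]
      calc v * a * v⁻¹ * (v * a * v⁻¹) = v * (a * a) * v⁻¹ := by group
        _ = 1 := by rw [aa]; group
    have h2 : b * a = a * b := by
      calc b * a = (a * a) * (b * a) * (b * b) := by rw [aa, hb, one_mul, mul_one]
        _ = a * (a * b * (a * b)) * b := by group
        _ = a * b := by rw [h1, mul_one]
    rw [← mul_assoc, ← hit, mul_assoc, mul_assoc, ← map_mul, ← map_mul, ← up_mul, ← up_mul, h2]
  have hne : ∀ b : Perm (Fin n), b ≠ 1 → ι (up b) ≠ 1 := by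
    intro b hb h
    exact hb (up_inj (O.spl.iota_eq_one h))
  refine O.no_triple hq (hcomm c u cc hu) (hcomm c' u' cc' hu') (hne c c1) (hne c' c1') ?_ (hconj c u hu)
    (hconj c' u' hu') ?_
  · rw [← map_mul, ← up_mul]; exact hne _ c1''
  · rw [← map_mul, ← up_mul]; exact hconj _ w hw

end Odd

/-! ### permutations -/

/-- two two-cycles of `a` -/
theorem perm_u {a : Perm (Fin n)} {x y : Fin n} :
    a * (swap x y * swap (a x) (a y)) = swap (a x) (a y) * a * (swap (a x) (a y))⁻¹ := by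
  rw [swap_inv, ← mul_assoc, mul_swap_eq_swap_mul a x y]

/-- a two-cycle and two fixed points -/
theorem perm_f {a : Perm (Fin n)} (aa : ∀ x, a (a x) = x) {x y z : Fin n} (hx : a x ≠ x) (hy : a y = y)
    (hz : a z = z) (hyz : y ≠ z) :
    a * (swap x (a x) * swap y z) = (swap x y * swap (a x) z) * a * (swap x y * swap (a x) z)⁻¹ := by
  have xy : x ≠ y := by rintro rfl; exact hx hy
  have xz : x ≠ z := by rintro rfl; exact hx hz
  have xy' : a x ≠ y := by
    intro h
    apply xy
    rw [← aa x, h, hy]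
  have xz' : a x ≠ z := by
    intro h
    apply xz
    rw [← aa x, h, hz]
  rw [eq_mul_inv_iff_mul_eq]
  have e1 : swap x y * swap (a x) z * swap x (a x) = swap y z * (swap x y * swap (a x) z) := by
    have h1 : (swap x y * swap (a x) z) x = y := by
      rw [Perm.mul_apply, swap_apply_of_ne_of_ne (Ne.symm hx) xz, swap_apply_left]
    have h2 : (swap x y * swap (a x) z) (a x) = z := by
      rw [Perm.mul_apply, swap_apply_left, swap_apply_of_ne_of_ne (Ne.symm xz) (Ne.symm hyz)]
    rw [mul_swap_eq_swap_mul, h1, h2]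
  have e2 : (a * swap x (a x)) * (swap x y * swap (a x) z) = (swap x y * swap (a x) z) * (a * swap x (a x)) := by
    have h1 : (a * swap x (a x)) x = x := by rw [Perm.mul_apply, swap_apply_left, aa]
    have h2 : (a * swap x (a x)) (a x) = a x := by rw [Perm.mul_apply, swap_apply_right]
    have h3 : (a * swap x (a x)) y = y := by
      rw [Perm.mul_apply, swap_apply_of_ne_of_ne (Ne.symm xy) (Ne.symm xy'), hy]
    have h4 : (a * swap x (a x)) z = z := by
      rw [Perm.mul_apply, swap_apply_of_ne_of_ne (Ne.symm xz) (Ne.symm xz'), hz]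
    rw [← mul_assoc, mul_swap_eq_swap_mul _ x y, h1, h3, mul_assoc, mul_swap_eq_swap_mul _ (a x) z, h2, h4,
      mul_assoc]
  calc a * (swap x (a x) * swap y z) * (swap x y * swap (a x) z)
      = a * swap x (a x) * (swap y z * (swap x y * swap (a x) z)) := by group
    _ = a * swap x (a x) * (swap x y * swap (a x) z) * swap x (a x) := by rw [← e1]; group
    _ = swap x y * swap (a x) z * (a * swap x (a x)) * swap x (a x) := by rw [e2]
    _ = swap x y * swap (a x) z * a := by rw [mul_assoc, mul_assoc a, swap_mul_self, mul_one]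

/-- combination -/
theorem perm_comb {a c c' u u' : Perm (Fin n)} (hu : a * c = u * a * u⁻¹) (hu' : a * c' = u' * a * u'⁻¹)
    (h : c' * u = u * c') : a * (c * c') = (u * u') * a * (u * u')⁻¹ := by
  have h1 : u * c' * u⁻¹ = c' := by rw [← h, mul_inv_cancel_right]
  calc a * (c * c') = (a * c) * c' := by group
    _ = u * a * u⁻¹ * c' := by rw [hu]
    _ = u * a * u⁻¹ * (u * c' * u⁻¹) := by rw [h1]
    _ = u * (a * c') * u⁻¹ := by group
    _ = u * (u' * a * u'⁻¹) * u⁻¹ := by rw [hu']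
    _ = (u * u') * a * (u * u')⁻¹ := by group

theorem swap_comm4 {x y z w : Fin n} (h1 : x ≠ z) (h2 : x ≠ w) (h3 : y ≠ z) (h4 : y ≠ w) :
    swap x y * swap z w = swap z w * swap x y := by
  rw [mul_swap_eq_swap_mul, swap_apply_of_ne_of_ne (Ne.symm h1) (Ne.symm h3),
    swap_apply_of_ne_of_ne (Ne.symm h2) (Ne.symm h4)]

theorem exists_not_mem {S : Finset (Fin n)} (h : S.card < n) : ∃ g, g ∉ S := by
  by_contra hcon
  push Not at hcon
  have : S = Finset.univ := Finset.eq_univ_of_forall hcon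
  rw [this, Finset.card_univ, Fintype.card_fin] at h
  exact lt_irrefl _ h

namespace Odd

/-- a conjugate of `t` of the form `a` or `t a`, `a` odd, is a transposition up to `t` -/
theorem is_swap (hn : 8 ≤ n) (O : Odd t ι) {i : G} (hi : i = 1 ∨ i = t) {a : Perm (Fin n)} (aa : a * a = 1)
    (hs : Perm.sign a = -1) (hq : IsConj t (i * ι (up a))) : ∃ x y, x ≠ y ∧ a = swap x y := by
  classical
  have haa : ∀ x, a (a x) = x := fun x => by rw [← Perm.mul_apply, aa, Perm.one_apply]
  have ainj : ∀ {x y}, a x = a y → x = y := fun h => a.injective h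
  by_contra hne
  push Not at hne
  -- the first two-cycle
  obtain ⟨x1, h1⟩ : ∃ x, a x ≠ x := by
    by_contra hcon
    push Not at hcon
    have : a = 1 := Perm.ext hcon
    rw [this, Perm.sign_one] at hs
    exact absurd hs (by decide)
  -- the second
  obtain ⟨x3, h3⟩ : ∃ x, a x ≠ (swap x1 (a x1)) x := by
    by_contra hcon
    push Not at hcon
    exact hne x1 (a x1) (Ne.symm h1) (Perm.ext hcon)
  have h31 : x3 ≠ x1 := by rintro rfl; exact h3 (by rw [swap_apply_left])
  have h32 : x3 ≠ a x1 := by rintro rfl; exact h3 (by rw [swap_apply_right, haa])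
  rw [swap_apply_of_ne_of_ne h31 h32] at h3
  have h41 : a x3 ≠ x1 := fun h => h32 (by rw [← h, haa])
  have h42 : a x3 ≠ a x1 := fun h => h31 (ainj h)
  -- the third
  obtain ⟨x5, h5⟩ : ∃ x, a x ≠ (swap x1 (a x1) * swap x3 (a x3)) x := by
    by_contra hcon
    push Not at hcon
    have : a = swap x1 (a x1) * swap x3 (a x3) := Perm.ext hcon
    rw [this, Perm.sign_mul, Perm.sign_swap (Ne.symm h1), Perm.sign_swap (Ne.symm h3)] at hs
    exact absurd hs (by decide)
  have h53 : x5 ≠ x3 := by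
    rintro rfl
    apply h5
    rw [Perm.mul_apply, swap_apply_left, swap_apply_of_ne_of_ne h41 h42]
  have h54 : x5 ≠ a x3 := by
    rintro rfl
    apply h5
    rw [Perm.mul_apply, swap_apply_right, haa, swap_apply_of_ne_of_ne h31 h32]
  have h51 : x5 ≠ x1 := by
    rintro rfl
    apply h5
    rw [Perm.mul_apply, swap_apply_of_ne_of_ne h53 h54, swap_apply_left]
  have h52 : x5 ≠ a x1 := by
    rintro rfl
    apply h5
    rw [Perm.mul_apply, swap_apply_of_ne_of_ne h53 h54, swap_apply_right, haa]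
  rw [Perm.mul_apply, swap_apply_of_ne_of_ne h53 h54, swap_apply_of_ne_of_ne h51 h52] at h5
  have h61 : a x5 ≠ x1 := fun h => h52 (by rw [← h, haa])
  have h62 : a x5 ≠ a x1 := fun h => h51 (ainj h)
  have h63 : a x5 ≠ x3 := fun h => h54 (by rw [← h, haa])
  have h64 : a x5 ≠ a x3 := fun h => h53 (ainj h)
  -- the first element
  have hu := perm_u (a := a) (x := x1) (y := x3)
  have cc : swap x1 x3 * swap (a x1) (a x3) * (swap x1 x3 * swap (a x1) (a x3)) = 1 := by
    have e := swap_comm4 (x := x1) (y := x3) (z := a x1) (w := a x3) (Ne.symm h1) (Ne.symm h41) h32 (Ne.symm h3)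
    calc swap x1 x3 * swap (a x1) (a x3) * (swap x1 x3 * swap (a x1) (a x3))
        = swap x1 x3 * swap (a x1) (a x3) * (swap (a x1) (a x3) * swap x1 x3) := by rw [e]
      _ = swap x1 x3 * (swap (a x1) (a x3) * swap (a x1) (a x3)) * swap x1 x3 := by group
      _ = 1 := by rw [swap_mul_self, mul_one, swap_mul_self]
  have cx1 : (swap x1 x3 * swap (a x1) (a x3)) x1 = x3 := by
    rw [Perm.mul_apply, swap_apply_of_ne_of_ne (Ne.symm h1) (Ne.symm h41), swap_apply_left]
  have c1 : swap x1 x3 * swap (a x1) (a x3) ≠ 1 := by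
    intro h
    rw [h, Perm.one_apply] at cx1
    exact h31 cx1.symm
  by_cases h7 : ∃ x7, x7 ≠ x1 ∧ x7 ≠ a x1 ∧ x7 ≠ x3 ∧ x7 ≠ a x3 ∧ x7 ≠ x5 ∧ x7 ≠ a x5 ∧ a x7 ≠ x7
  · -- four two-cycles
    obtain ⟨x7, h71, h72, h73, h74, h75, h76, h7⟩ := h7
    have h81 : a x7 ≠ x1 := fun h => h72 (by rw [← h, haa])
    have h82 : a x7 ≠ a x1 := fun h => h71 (ainj h)
    have h83 : a x7 ≠ x3 := fun h => h74 (by rw [← h, haa])
    have h84 : a x7 ≠ a x3 := fun h => h73 (ainj h)
    have h85 : a x7 ≠ x5 := fun h => h76 (by rw [← h, haa])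
    have h86 : a x7 ≠ a x5 := fun h => h75 (ainj h)
    have hu' := perm_u (a := a) (x := x5) (y := x7)
    have e1 : swap x5 x7 * swap (a x1) (a x3) = swap (a x1) (a x3) * swap x5 x7 :=
      swap_comm4 h52 h54 h72 h74
    have e2 : swap (a x5) (a x7) * swap (a x1) (a x3) = swap (a x1) (a x3) * swap (a x5) (a x7) :=
      swap_comm4 h62 h64 h82 h84
    have hcu : swap x5 x7 * swap (a x5) (a x7) * swap (a x1) (a x3) =
        swap (a x1) (a x3) * (swap x5 x7 * swap (a x5) (a x7)) := by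
      rw [mul_assoc, e2, ← mul_assoc, e1, mul_assoc]
    have e := swap_comm4 (x := x5) (y := x7) (z := a x5) (w := a x7) (Ne.symm h5) (Ne.symm h85) h76 (Ne.symm h7)
    have cc' : swap x5 x7 * swap (a x5) (a x7) * (swap x5 x7 * swap (a x5) (a x7)) = 1 := by
      calc swap x5 x7 * swap (a x5) (a x7) * (swap x5 x7 * swap (a x5) (a x7))
          = swap x5 x7 * swap (a x5) (a x7) * (swap (a x5) (a x7) * swap x5 x7) := by rw [e]
        _ = swap x5 x7 * (swap (a x5) (a x7) * swap (a x5) (a x7)) * swap x5 x7 := by group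
        _ = 1 := by rw [swap_mul_self, mul_one, swap_mul_self]
    have cx5 : (swap x5 x7 * swap (a x5) (a x7)) x5 = x7 := by
      rw [Perm.mul_apply, swap_apply_of_ne_of_ne (Ne.symm h5) (Ne.symm h85), swap_apply_left]
    have cx1' : (swap x5 x7 * swap (a x5) (a x7)) x1 = x1 := by
      rw [Perm.mul_apply, swap_apply_of_ne_of_ne (Ne.symm h61) (Ne.symm h81),
        swap_apply_of_ne_of_ne (Ne.symm h51) (Ne.symm h71)]
    refine O.no_perm hi hq aa cc cc' c1 ?_ ?_ hu hu' (perm_comb hu hu' hcu)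
    · intro h
      rw [h, Perm.one_apply] at cx5
      exact h75 cx5.symm
    · intro h
      have h' : (swap x1 x3 * swap (a x1) (a x3) * (swap x5 x7 * swap (a x5) (a x7))) x1 = x1 := by
        rw [h, Perm.one_apply]
      rw [Perm.mul_apply, cx1', cx1] at h'
      exact h31 h'
  · -- three two-cycles and two fixed points
    push Not at h7
    obtain ⟨y, hy⟩ := exists_not_mem (n := n) (S := {x1, a x1, x3, a x3, x5, a x5})
      (lt_of_le_of_lt Finset.card_le_six (by omega))
    simp only [Finset.mem_insert, Finset.mem_singleton, not_or] at hy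
    obtain ⟨y1, y2, y3, y4, y5, y6⟩ := hy
    have hay := h7 y y1 y2 y3 y4 y5 y6
    obtain ⟨z, hz⟩ := exists_not_mem (n := n) (S := insert y {x1, a x1, x3, a x3, x5, a x5}) (by
      have h8 := Finset.card_insert_le y ({x1, a x1, x3, a x3, x5, a x5} : Finset (Fin n))
      have h9 : ({x1, a x1, x3, a x3, x5, a x5} : Finset (Fin n)).card ≤ 6 := Finset.card_le_six
      omega)
    simp only [Finset.mem_insert, Finset.mem_singleton, not_or] at hz
    obtain ⟨zy, z1, z2, z3, z4, z5, z6⟩ := hz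
    have haz := h7 z z1 z2 z3 z4 z5 z6
    have hu' := perm_f haa (x := x5) (y := y) (z := z) h5 hay haz (Ne.symm zy)
    have e1 : swap x5 (a x5) * swap (a x1) (a x3) = swap (a x1) (a x3) * swap x5 (a x5) :=
      swap_comm4 h52 h54 h62 h64
    have e2 : swap y z * swap (a x1) (a x3) = swap (a x1) (a x3) * swap y z :=
      swap_comm4 y2 y4 z2 z4
    have hcu : swap x5 (a x5) * swap y z * swap (a x1) (a x3) =
        swap (a x1) (a x3) * (swap x5 (a x5) * swap y z) := by
      rw [mul_assoc, e2, ← mul_assoc, e1, mul_assoc]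
    have e := swap_comm4 (x := x5) (y := a x5) (z := y) (w := z) (Ne.symm y5) (Ne.symm z5) (Ne.symm y6)
      (Ne.symm z6)
    have cc' : swap x5 (a x5) * swap y z * (swap x5 (a x5) * swap y z) = 1 := by
      calc swap x5 (a x5) * swap y z * (swap x5 (a x5) * swap y z)
          = swap x5 (a x5) * swap y z * (swap y z * swap x5 (a x5)) := by rw [e]
        _ = swap x5 (a x5) * (swap y z * swap y z) * swap x5 (a x5) := by group
        _ = 1 := by rw [swap_mul_self, mul_one, swap_mul_self]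
    have cx5 : (swap x5 (a x5) * swap y z) x5 = a x5 := by
      rw [Perm.mul_apply, swap_apply_of_ne_of_ne (Ne.symm y5) (Ne.symm z5), swap_apply_left]
    have cx1' : (swap x5 (a x5) * swap y z) x1 = x1 := by
      rw [Perm.mul_apply, swap_apply_of_ne_of_ne (Ne.symm y1) (Ne.symm z1),
        swap_apply_of_ne_of_ne (Ne.symm h51) (Ne.symm h61)]
    refine O.no_perm hi hq aa cc cc' c1 ?_ ?_ hu hu' (perm_comb hu hu' hcu)
    · intro h
      rw [h, Perm.one_apply] at cx5
      exact h5 cx5.symm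
    · intro h
      have h' : (swap x1 x3 * swap (a x1) (a x3) * (swap x5 (a x5) * swap y z)) x1 = x1 := by
        rw [h, Perm.one_apply]
      rw [Perm.mul_apply, cx1', cx1] at h'
      exact h31 h'

end Odd

variable [Finite G]

/-- **the odd case is impossible** -/
theorem not_odd (hn : 8 ≤ n) (O : Odd t ι) (hG : ∀ H : Subgroup G, H.index ≠ 2) : False := by
  classical
  obtain ⟨p, τ, hpτ⟩ := exists_proj O.spl
  have P : Pr t ι p τ := ⟨O.spl, hpτ⟩
  have htc : t ∈ centralizer ({t} : Set G) := mem_centralizer_singleton_iff.2 rfl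
  have ht : p ⟨t, htc⟩ = 1 ∧ τ ⟨t, htc⟩ = -1 := by
    refine P.of_t_iota (a := 1) ?_
    rw [up_one, map_one, mul_one]
  -- squares
  have hsq : ∀ x : centralizer ({t} : Set G), IsConj t (x : G) → p x * p x = 1 := by
    intro x hx
    rw [← map_mul]
    have h1 : (x : G) * x = 1 := by
      obtain ⟨g, hg⟩ := isConj_iff.1 hx
      rw [← hg]
      calc g * t * g⁻¹ * (g * t * g⁻¹) = g * (t * t) * g⁻¹ := by group
        _ = 1 := by rw [O.spl.tt]; group
    have h2 : x * x = 1 := Subtype.ext h1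
    rw [h2, map_one]
  have hsw : ∀ {x y x' y' : Fin n}, x ≠ y → x' ≠ y' → ∀ {i : G}, (i = 1 ∨ i = t) →
      IsConj t (i * ι (up (swap x y))) → IsConj t (i * ι (up (swap x' y'))) := by
    intro x y x' y' hxy hxy' i hi hc
    have h1 : IsConj (swap x y) (swap x' y') := Perm.isConj_swap hxy hxy'
    obtain ⟨v, hv⟩ := isConj_iff.1 h1
    have hit : ∀ b, i * ι b = ι b * i := by
      intro b
      rcases hi with rfl | rfl
      · rw [one_mul, mul_one]
      · exact O.spl.comm b
    refine hc.trans (isConj_iff.2 ⟨ι (up v), ?_⟩)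
    rw [← hv, up_mul, up_mul, up_inv, map_mul, map_mul, map_inv]
    calc ι (up v) * (i * ι (up (swap x y))) * (ι (up v))⁻¹
        = (ι (up v) * i) * ι (up (swap x y)) * (ι (up v))⁻¹ := by group
      _ = (i * ι (up v)) * ι (up (swap x y)) * (ι (up v))⁻¹ := by rw [hit]
      _ = i * (ι (up v) * ι (up (swap x y)) * (ι (up v))⁻¹) := by group
  -- `t e ∈ D`
  have hte : ∃ x y, x ≠ y ∧ IsConj t (t * ι (up (swap x y))) := by
    obtain ⟨x, hx1, hx2, hx3⟩ := TForm.exists_conj_hom hG O.spl.tt τ ht.2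
    have h1 := P.eq x
    rw [hx1, if_neg (by decide)] at h1
    have h2 := hx3
    rw [h1] at h2
    obtain ⟨y, z, hyz, h3⟩ := O.is_swap hn (Or.inr rfl) (hsq x hx3) (O.sign_eq P hx3 hx2) h2
    rw [h3] at h2
    exact ⟨y, z, hyz, h2⟩
  -- `e ∈ D`
  have he : ∃ x y, x ≠ y ∧ IsConj t (1 * ι (up (swap x y))) := by
    obtain ⟨x, hx1, hx2, hx3⟩ := TForm.exists_conj_hom hG O.spl.tt (τ * (Perm.sign.comp p)) (by
      rw [MonoidHom.mul_apply, ht.2, MonoidHom.comp_apply, ht.1, map_one]; rfl)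
    have h0 := O.sign_eq P hx3 hx2
    rw [MonoidHom.mul_apply, MonoidHom.comp_apply, h0] at hx1
    have hτ : τ x = 1 := by
      rcases Int.units_eq_one_or (τ x) with h | h
      · exact h
      · rw [h] at hx1; exact absurd hx1 (by decide)
    have h1 := P.eq x
    rw [hτ, if_pos rfl] at h1
    have h2 := hx3
    rw [h1] at h2
    obtain ⟨y, z, hyz, h3⟩ := O.is_swap hn (Or.inl rfl) (hsq x hx3) h0 h2
    rw [h3] at h2
    exact ⟨y, z, hyz, h2⟩
  obtain ⟨x, y, hxy, h1⟩ := hte
  obtain ⟨x', y', hxy', h2⟩ := he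
  set l0 : Fin n := ⟨0, by omega⟩
  set l1 : Fin n := ⟨1, by omega⟩
  set l2 : Fin n := ⟨2, by omega⟩
  set l3 : Fin n := ⟨3, by omega⟩
  have d01 : l0 ≠ l1 := by simp [l0, l1]
  have d02 : l0 ≠ l2 := by simp [l0, l2]
  have d03 : l0 ≠ l3 := by simp [l0, l3]
  have d12 : l1 ≠ l2 := by simp [l1, l2]
  have d13 : l1 ≠ l3 := by simp [l1, l3]
  have d23 : l2 ≠ l3 := by simp [l2, l3]
  have te := hsw hxy d01 (Or.inr rfl) h1
  have tf := hsw hxy d23 (Or.inr rfl) h1
  have e' := hsw hxy' d01 (Or.inl rfl) h2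
  have f' := hsw hxy' d23 (Or.inl rfl) h2
  rw [one_mul] at e' f'
  have ef : swap l0 l1 * swap l2 l3 = swap l2 l3 * swap l0 l1 := swap_comm4 d02 d03 d12 d13
  have ne1 : swap l0 l1 * swap l2 l3 ≠ 1 := by
    intro h
    have h' : (swap l0 l1 * swap l2 l3) l0 = l0 := by rw [h, Perm.one_apply]
    rw [Perm.mul_apply, swap_apply_of_ne_of_ne d02 d03, swap_apply_left] at h'
    exact d01 h'.symm
  have hcm : ι (up (swap l0 l1 * swap l2 l3)) * ι (up (swap l0 l1)) =
      ι (up (swap l0 l1)) * ι (up (swap l0 l1 * swap l2 l3)) := by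
    rw [← map_mul, ← map_mul, ← up_mul, ← up_mul, mul_assoc, ← ef]
  have hee : ι (up (swap l0 l1)) * ι (up (swap l0 l1 * swap l2 l3)) = ι (up (swap l2 l3)) := by
    rw [← map_mul, ← up_mul, ← mul_assoc, swap_mul_self, one_mul]
  refine O.no_triple (q := t * ι (up (swap l0 l1))) (k := t) (k' := ι (up (swap l0 l1 * swap l2 l3))) te
    ?_ ?_ O.spl.t1 ?_ ?_ ?_ ?_ ?_
  · rw [mul_assoc, ← O.spl.comm]
  · rw [← mul_assoc, ← O.spl.comm, mul_assoc, hcm, mul_assoc]
  · intro h
    exact ne1 (up_inj (O.spl.iota_eq_one h))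
  · intro h
    apply O.spl.ne (up (swap l0 l1 * swap l2 l3))⁻¹
    rw [map_inv]
    exact (eq_inv_of_mul_eq_one_left h).symm
  · rw [mul_assoc, ← O.spl.comm, ← mul_assoc, O.spl.tt, one_mul]
    exact e'
  · rw [mul_assoc, hee]
    exact tf
  · have e1 : t * ι (up (swap l0 l1)) * (t * ι (up (swap l0 l1 * swap l2 l3))) =
        (t * t) * (ι (up (swap l0 l1)) * ι (up (swap l0 l1 * swap l2 l3))) := by
      calc t * ι (up (swap l0 l1)) * (t * ι (up (swap l0 l1 * swap l2 l3)))
          = t * (ι (up (swap l0 l1)) * t) * ι (up (swap l0 l1 * swap l2 l3)) := by group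
        _ = t * (t * ι (up (swap l0 l1))) * ι (up (swap l0 l1 * swap l2 l3)) := by rw [O.spl.comm]
        _ = _ := by group
    rw [e1, O.spl.tt, one_mul, hee]
    exact f'

/-- **main result**: some `t a`, `a ≠ 1` even, is conjugate to `t` -/
theorem exists_even (hn : 8 ≤ n) (h : Spl t ⊤ ι) (hG : ∀ H : Subgroup G, H.index ≠ 2)
    (hK : ∀ a : (⊤ : Subgroup (Perm (Fin n))), Perm.sign (a : Perm (Fin n)) = 1 → ¬ IsConj t (ι a)) :
    ∃ a : (⊤ : Subgroup (Perm (Fin n))), Perm.sign (a : Perm (Fin n)) = 1 ∧ a ≠ 1 ∧ IsConj t (t * ι a) := by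
  by_contra hcon
  push Not at hcon
  refine not_odd hn (ι := ι) ⟨h, fun a ha => hK (up a) ha, fun a ha h1 => hcon (up a) ha ?_⟩ hG
  intro h2
  exact h1 (up_inj h2)

end Cfsg.Agent.OddHalf.D5.SymOdd

end

-- merged: Cfsg.Agent.OddHalf.D5.Sym.Match
section

/-!
# ODD D5, `C_G(t) = ⟨t⟩ × S_n`: MATCH

`exists_match`: let `t ~ t k`, `k ≠ 1` an even involution of `S_n`, `n ≥ 6`, with fixed points `p ≠ q`, and the number of
the fixed points of `k` not `6`; `e = (p q)`. There is `g ∈ G` with `t^g = t k`, `k^g = k` and `g ∈ C(e) ∪ C(te)`.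
-/

set_option autoImplicit false
set_option linter.unusedSectionVars false

namespace Cfsg.Agent.OddHalf.D5.Sym

open Subgroup Equiv Cfsg.Agent.OddHalf.D5.QPerm
open scoped commutatorElement

variable {G : Type*} [Group G] {n : ℕ}

/-- `C_G(t) = ⟨t⟩ × j(S_n)` -/
structure Sp (t : G) (j : Perm (Fin n) →* G) : Prop where
  tt : t * t = 1
  t1 : t ≠ 1
  inj : Function.Injective j
  comm : ∀ a, t * j a = j a * t
  cent : ∀ g, g * t = t * g → ∃ z a, (z = 1 ∨ z = t) ∧ g = z * j a
  ne : ∀ a, j a ≠ t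

/-- the homomorphism on `S_n` itself -/
def jj (ι : (⊤ : Subgroup (Perm (Fin n))) →* G) : Perm (Fin n) →* G :=
  ι.comp (Subgroup.topEquiv (G := Perm (Fin n))).symm.toMonoidHom

theorem jj_apply (ι : (⊤ : Subgroup (Perm (Fin n))) →* G) (a : Perm (Fin n)) : jj ι a = ι (SymOdd.up a) := rfl

theorem sp_of_spl {t : G} {ι : (⊤ : Subgroup (Perm (Fin n))) →* G} (h : Spl t ⊤ ι) : Sp t (jj ι) where
  tt := h.tt
  t1 := h.t1
  inj := fun a b e => SymOdd.up_inj (h.inj e)
  comm := fun a => h.comm _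
  cent := by
    intro g hg
    rcases h.cent g hg with ⟨a, ha⟩ | ⟨a, ha⟩
    · exact ⟨1, a, Or.inl rfl, by rw [one_mul]; exact ha⟩
    · exact ⟨t, a, Or.inr rfl, ha⟩
  ne := fun a => h.ne _

namespace Sp

variable {t x : G} {j jx : Perm (Fin n) →* G}

theorem t_inv (h : Sp t j) : t⁻¹ = t := inv_eq_of_mul_eq_one_left h.tt

theorem zz (h : Sp t j) {z : G} (hz : z = 1 ∨ z = t) : z * z = 1 := by
  rcases hz with rfl | rfl
  · exact one_mul 1
  · exact h.tt

theorem zcomm (h : Sp t j) {z : G} (hz : z = 1 ∨ z = t) (a : Perm (Fin n)) : z * j a = j a * z := by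
  rcases hz with rfl | rfl
  · rw [one_mul, mul_one]
  · exact h.comm a

/-- uniqueness of the components -/
theorem uniq (h : Sp t j) {z : G} (hz : z = 1 ∨ z = t) {a b : Perm (Fin n)} (e : z * j a = j b) : z = 1 ∧ a = b := by
  rcases hz with rfl | rfl
  · rw [one_mul] at e; exact ⟨rfl, h.inj e⟩
  · exfalso
    apply h.ne (b * a⁻¹)
    rw [map_mul, map_inv, ← e, mul_inv_cancel_right]

theorem conj_j (h : Sp t j) {z : G} (hz : z = 1 ∨ z = t) (a b : Perm (Fin n)) :
    z * j a * j b * (z * j a)⁻¹ = j (a * b * a⁻¹) := by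
  rw [map_mul, map_mul, map_inv, mul_inv_rev]
  calc z * j a * j b * ((j a)⁻¹ * z⁻¹) = z * (j a * j b * (j a)⁻¹) * z⁻¹ := by group
    _ = z * j (a * b * a⁻¹) * z⁻¹ := by rw [map_mul, map_mul, map_inv]
    _ = j (a * b * a⁻¹) := by rw [h.zcomm hz, mul_inv_cancel_right]
    _ = j a * j b * (j a)⁻¹ := by rw [map_mul, map_mul, map_inv]

/-- commutators -/
theorem comm_j (h : Sp t j) {z z' : G} (hz : z = 1 ∨ z = t) (hz' : z' = 1 ∨ z' = t) (a b : Perm (Fin n)) :
    ⁅z * j a, z' * j b⁆ = j ⁅a, b⁆ := by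
  have h1 : z * z' = z' * z := by
    rcases hz with rfl | rfl
    · rw [one_mul, mul_one]
    · rcases hz' with rfl | rfl
      · rw [one_mul, mul_one]
      · rfl
  rw [commutatorElement_def, commutatorElement_def]
  calc z * j a * (z' * j b) * (z * j a)⁻¹ * (z' * j b)⁻¹
      = z * (j a * z') * j b * (z * j a)⁻¹ * (z' * j b)⁻¹ := by group
    _ = (z * z') * j a * j b * (z * j a)⁻¹ * (z' * j b)⁻¹ := by rw [← h.zcomm hz']; group
    _ = z' * (z * j a * j b * (z * j a)⁻¹) * ((j b)⁻¹ * z'⁻¹) := by rw [h1]; group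
    _ = z' * (j (a * b * a⁻¹) * (j b)⁻¹) * z'⁻¹ := by rw [h.conj_j hz]; group
    _ = z' * j (a * b * a⁻¹ * b⁻¹) * z'⁻¹ := by rw [map_mul j (a * b * a⁻¹), map_inv]
    _ = j (a * b * a⁻¹ * b⁻¹) := by rw [h.zcomm hz', mul_inv_cancel_right]

/-- transport by conjugation -/
theorem conj (h : Sp t j) (x : G) : Sp (x * t * x⁻¹) ((MulAut.conj x).toMonoidHom.comp j) where
  tt := by
    calc x * t * x⁻¹ * (x * t * x⁻¹) = x * (t * t) * x⁻¹ := by group
      _ = 1 := by rw [h.tt]; group
  t1 := by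
    intro e
    apply h.t1
    rw [mul_inv_eq_one] at e
    exact mul_eq_left.1 e
  inj := (MulAut.conj x).injective.comp h.inj
  comm := by
    intro a
    show x * t * x⁻¹ * (x * j a * x⁻¹) = x * j a * x⁻¹ * (x * t * x⁻¹)
    calc x * t * x⁻¹ * (x * j a * x⁻¹) = x * (t * j a) * x⁻¹ := by group
      _ = x * (j a * t) * x⁻¹ := by rw [h.comm a]
      _ = x * j a * x⁻¹ * (x * t * x⁻¹) := by group
  cent := by
    intro g hg
    have h1 : (x⁻¹ * g * x) * t = t * (x⁻¹ * g * x) := by
      calc (x⁻¹ * g * x) * t = x⁻¹ * (g * (x * t * x⁻¹)) * x := by group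
        _ = x⁻¹ * (x * t * x⁻¹ * g) * x := by rw [hg]
        _ = t * (x⁻¹ * g * x) := by group
    obtain ⟨z, a, hz, ha⟩ := h.cent _ h1
    refine ⟨x * z * x⁻¹, a, ?_, ?_⟩
    · rcases hz with rfl | rfl
      · left; group
      · right; rfl
    · show g = x * z * x⁻¹ * (x * j a * x⁻¹)
      calc g = x * (x⁻¹ * g * x) * x⁻¹ := by group
        _ = x * z * x⁻¹ * (x * j a * x⁻¹) := by rw [ha]; group
  ne := by
    intro a e
    apply h.ne a
    have e' : x * j a * x⁻¹ = x * t * x⁻¹ := e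
    exact mul_left_cancel (mul_right_cancel e')

/-- an element commuting with `t` and `j k` is `z j c` with `c` commuting with `k` -/
theorem cent_k (h : Sp t j) {k : Perm (Fin n)} {g : G} (hg : g * t = t * g) (hgk : g * j k = j k * g) :
    ∃ z c, (z = 1 ∨ z = t) ∧ g = z * j c ∧ c * k = k * c := by
  obtain ⟨z, c, hz, hc⟩ := h.cent g hg
  refine ⟨z, c, hz, hc, ?_⟩
  apply h.inj
  rw [map_mul, map_mul]
  rw [hc, ← mul_assoc, ← h.zcomm hz k, mul_assoc, mul_assoc] at hgk
  exact mul_left_cancel hgk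

end Sp

/-- The situation: two commuting conjugates of `t`. -/
structure Two (t x : G) (j jx : Perm (Fin n) →* G) (k k' : Perm (Fin n)) : Prop where
  h : Sp t j
  hx : Sp x jx
  xt : x = t * j k
  kk : k * k = 1
  kk' : k' * k' = 1
  jk : j k = jx k'
  s : Perm.sign k = 1
  s' : Perm.sign k' = 1
  k1 : k ≠ 1

namespace Two

variable {t x : G} {j jx : Perm (Fin n) →* G} {k k' : Perm (Fin n)}

theorem jkk (T : Two t x j jx k k') : j k * j k = 1 := by rw [← map_mul, T.kk, map_one]

theorem tx (T : Two t x j jx k k') : t = x * jx k' := by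
  rw [T.xt, ← T.jk, mul_assoc, T.jkk, mul_one]

theorem k1' (T : Two t x j jx k k') : k' ≠ 1 := by
  rintro rfl
  apply T.k1
  apply T.h.inj
  rw [T.jk, map_one, map_one]

theorem symm (T : Two t x j jx k k') : Two x t jx j k' k :=
  ⟨T.hx, T.h, T.tx, T.kk', T.kk, T.jk.symm, T.s', T.s, T.k1'⟩

/-- an element commuting with `t` and `j k`, in the coordinates of `x` -/
theorem cent_x (T : Two t x j jx k k') {g : G} (hg : g * t = t * g) (hgk : g * j k = j k * g) :
    ∃ z c, (z = 1 ∨ z = x) ∧ g = z * jx c ∧ c * k' = k' * c := by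
  apply T.hx.cent_k
  · rw [T.xt, ← mul_assoc, hg, mul_assoc, hgk, mul_assoc]
  · rw [← T.jk, hgk]

theorem cent_jc (T : Two t x j jx k k') {c : Perm (Fin n)} (hc : c * k = k * c) :
    ∃ z c', (z = 1 ∨ z = x) ∧ j c = z * jx c' ∧ c' * k' = k' * c' := by
  apply T.cent_x
  · rw [T.h.comm]
  · rw [← map_mul, hc, map_mul]

/-- `FA` is normalised by the centralizer of `k` -/
theorem _root_.Cfsg.Agent.OddHalf.D5.Sym.FA_conj {k c a : Perm (Fin n)} (hc : c * k = k * c) (ha : a ∈ FA k) :
    c * a * c⁻¹ ∈ FA k := by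
  obtain ⟨h1, h2⟩ := mem_FA.1 ha
  refine mem_FA.2 ⟨?_, ?_⟩
  · rw [Perm.sign_mul, Perm.sign_mul, h1, Perm.sign_inv]
    rcases Int.units_eq_one_or (Perm.sign c) with h | h <;> rw [h] <;> decide
  · intro x hx
    have hci : c⁻¹ * k = k * c⁻¹ := by
      rw [inv_mul_eq_iff_eq_mul, ← mul_assoc, hc, mul_inv_cancel_right]
    have h3 : k (c⁻¹ x) = c⁻¹ (k x) := by
      have := congrArg (fun g : Perm (Fin n) => g x) hci
      simpa using this.symm
    have h4 : a (c⁻¹ x) = c⁻¹ x := h2 _ (by rw [h3]; exact fun h => hx (c⁻¹.injective h))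
    rw [Perm.mul_apply, Perm.mul_apply, h4, ← Perm.mul_apply, mul_inv_cancel, Perm.one_apply]

theorem _root_.Cfsg.Agent.OddHalf.D5.Sym.FA_comm {k a : Perm (Fin n)} (hk : k * k = 1) (ha : a ∈ FA k) : a * k = k * a := by
  obtain ⟨_, h2⟩ := mem_FA.1 ha
  refine Perm.ext fun x => ?_
  rw [Perm.mul_apply, Perm.mul_apply]
  by_cases hx : k x = x
  · rw [hx]
    by_contra hcon
    have h3 : k (a x) ≠ a x := fun h => hcon h.symm
    have h4 := a.injective (h2 _ h3)
    rw [h4] at h3
    exact h3 hx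
  · rw [h2 x hx, h2 (k x) (by rw [inv2 hk]; exact Ne.symm hx)]

/-- **(M2)** -/
theorem map_le (T : Two t x j jx k k') : (FA k).map j ≤ (FA k').map jx := by
  rw [map_le_iff_le_comap]
  apply FA_le
  intro σ hσ h3
  rw [mem_comap]
  have hσk := FA_comm T.kk hσ
  obtain ⟨z, σ', hz, hσ', hσk'⟩ := T.cent_jc hσk
  have h4 : z * j σ = jx σ' := by
    rw [hσ', ← mul_assoc, T.hx.zz hz, one_mul]
  -- `z = 1`
  have hz3 : z = 1 ∧ σ' ^ 3 = 1 := by
    have h5 : (z * jx σ') ^ 3 = 1 := by rw [← hσ', ← map_pow, h3, map_one]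
    have h6 : (z * jx σ') ^ 3 = z * jx (σ' ^ 3) := by
      have hc : Commute z (jx σ') := T.hx.zcomm hz _
      rw [hc.mul_pow, map_pow]
      congr 1
      rw [pow_succ, pow_two, T.hx.zz hz, one_mul]
    rw [h6, ← map_one jx] at h5
    exact T.hx.uniq hz h5
  obtain ⟨rfl, h3'⟩ := hz3
  rw [one_mul] at hσ'
  have hs' : Perm.sign σ' = 1 := by
    have := congrArg Perm.sign h3'
    rw [map_pow, Perm.sign_one] at this
    rcases Int.units_eq_one_or (Perm.sign σ') with h | h
    · exact h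
    · rw [h] at this; exact absurd this (by decide)
  rw [hσ']
  refine mem_map_of_mem _ (mem_FA.2 ⟨hs', fun a ha => ?_⟩)
  by_contra hne
  have h5 : k' ∈ ((FA k).map j).comap jx := by
    refine mem_of_moves T.kk' T.s' _ ?_ (s := σ') ?_ hσk' h3' ha hne
    · intro h hh c hc
      rw [mem_comap] at hh ⊢
      obtain ⟨h', hh', hh2⟩ := hh
      obtain ⟨y, c', hy, hc', hck⟩ := T.symm.cent_jc hc
      refine ⟨c' * h' * c'⁻¹, FA_conj hck hh', ?_⟩
      rw [← T.h.conj_j hy, ← hc', hh2, map_mul, map_mul, map_inv]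
    · rw [mem_comap, ← hσ']
      exact mem_map_of_mem _ hσ
  rw [mem_comap, ← T.jk] at h5
  obtain ⟨h', hh', hh2⟩ := h5
  have h6 := T.h.inj hh2
  rw [h6] at hh'
  apply T.k1
  refine Perm.ext fun y => ?_
  by_contra hcon
  exact hcon ((mem_FA.1 hh').2 y hcon)

theorem map_eq (T : Two t x j jx k k') : (FA k).map j = (FA k').map jx := le_antisymm T.map_le T.symm.map_le

theorem card_eq (T : Two t x j jx k k') : Nat.card (FA k) = Nat.card (FA k') := by
  have h1 : Nat.card ((FA k).map j) = Nat.card (FA k) :=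
    (Nat.card_congr (equivMapOfInjective _ _ T.h.inj).toEquiv).symm
  have h2 : Nat.card ((FA k').map jx) = Nat.card (FA k') :=
    (Nat.card_congr (equivMapOfInjective _ _ T.hx.inj).toEquiv).symm
  rw [← h1, T.map_eq, h2]

end Two

theorem FA_bot {k : Perm (Fin n)} (h : (Finset.univ.filter fun a => k a = a).card ≤ 1) : Nat.card (FA k) = 1 := by
  have : FA k = ⊥ := by
    rw [eq_bot_iff]
    intro σ hσ
    obtain ⟨_, h2⟩ := mem_FA.1 hσ
    rw [mem_bot]
    refine Perm.ext fun a => ?_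
    rw [Perm.one_apply]
    by_cases ha : k a = a
    · have h3 : k (σ a) = σ a := by
        by_contra hcon
        have h4 := σ.injective (h2 _ hcon)
        rw [h4] at hcon
        exact hcon ha
      rw [Finset.card_le_one] at h
      exact h _ (by simpa using h3) _ (by simpa using ha)
    · exact h2 a ha
  rw [this]; exact Nat.card_unique

theorem Two.supp_eq {t x : G} {j jx : Perm (Fin n) →* G} {k k' : Perm (Fin n)} (T : Two t x j jx k k')
    (h2 : 2 ≤ (Finset.univ.filter fun a => k a = a).card) : k.support.card = k'.support.card := by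
  classical
  have key : ∀ m : Perm (Fin n), (Finset.univ.filter fun a => m a = a).card + m.support.card = n := by
    intro m
    have h1 : m.support = Finset.univ.filter fun a => ¬ (m a = a) := by
      ext a; simp [Perm.mem_support]
    rw [h1, Finset.card_filter_add_card_filter_not, Finset.card_univ, Fintype.card_fin]
  have h3 := key k
  have h4 := key k'
  obtain ⟨c1, h5⟩ := four_dvd_support T.kk T.s
  obtain ⟨c2, h6⟩ := four_dvd_support T.kk' T.s'
  have h7 := T.card_eq
  have h8 := card_FA k h2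
  by_cases h9 : 2 ≤ (Finset.univ.filter fun a => k' a = a).card
  · have h10 := card_FA k' h9
    rw [h7, h10] at h8
    have := (Nat.factorial_inj (by omega)).1 h8
    omega
  · have h10 := FA_bot (k := k') (by omega)
    rw [h7, h10] at h8
    have h11 : (Finset.univ.filter fun a => k a = a).card = 2 := by
      apply Eq.symm
      rw [← Nat.factorial_inj (by norm_num), ← h8]
      rfl
    omega

/-- **(M1)** -/
theorem exists_two (hn : 6 ≤ n) {t x : G} {j jx : Perm (Fin n) →* G} (h : Sp t j) (hx : Sp x jx) {k : Perm (Fin n)}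
    (xt : x = t * j k) (kk : k * k = 1) (k1 : k ≠ 1) (s : Perm.sign k = 1) : ∃ k', Two t x j jx k k' := by
  have hmem := mem_commutator_CA hn kk s
  have h1 : ⁅CA k, CA k⁆ ≤ ((An n).map jx).comap j := by
    rw [commutator_le]
    intro a ha b hb
    rw [mem_CA] at ha hb
    have key : ∀ c : Perm (Fin n), c * k = k * c → j c * x = x * j c := by
      intro c hc
      rw [xt, ← mul_assoc, ← h.comm, mul_assoc, ← map_mul, hc, map_mul, mul_assoc]
    obtain ⟨z, a', hz, ha'⟩ := hx.cent _ (key a ha.1)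
    obtain ⟨z', b', hz', hb'⟩ := hx.cent _ (key b hb.1)
    rw [mem_comap, map_commutatorElement, ha', hb', hx.comm_j hz hz']
    apply mem_map_of_mem
    rw [Perm.mem_alternatingGroup, commutatorElement_def, Perm.sign_mul, Perm.sign_mul, Perm.sign_mul,
      Perm.sign_inv, Perm.sign_inv]
    rcases Int.units_eq_one_or (Perm.sign a') with h1 | h1 <;>
    rcases Int.units_eq_one_or (Perm.sign b') with h2 | h2 <;> rw [h1, h2] <;> decide
  obtain ⟨k', hk', hkk'⟩ := h1 hmem
  refine ⟨k', h, hx, xt, kk, ?_, hkk'.symm, s, Perm.mem_alternatingGroup.1 hk', k1⟩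
  apply hx.inj
  rw [map_mul, map_one, hkk', ← map_mul, kk, map_one]

/-- the product of two transpositions -/
theorem swap_mul_swap_pow (a b c d : Fin n) : (swap a b * swap c d) ^ 6 = 1 := by
  classical
  have six : ∀ a b : Fin n, (swap a b) ^ 6 = 1 := fun a b => by
    rw [show 6 = 2 * 3 from rfl, pow_mul, pow_two, swap_mul_self, one_pow]
  by_cases hab : a = b
  · rw [hab, swap_self]
    show (1 * swap c d) ^ 6 = 1
    rw [one_mul]; exact six c d
  by_cases hcd : c = d
  · rw [hcd, swap_self]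
    show (swap a b * 1) ^ 6 = 1
    rw [mul_one]; exact six a b
  have three : ∀ a b c : Fin n, a ≠ b → a ≠ c → b ≠ c → (swap a b * swap a c) ^ 6 = 1 := by
    intro a b c h1 h2 h3
    have h4 := Perm.isThreeCycle_swap_mul_swap_same h1 h2 h3
    rw [show 6 = 3 * 2 from rfl, pow_mul, ← h4.orderOf, pow_orderOf_eq_one, one_pow]
  have same : (swap a b * swap a b) ^ 6 = 1 := by rw [swap_mul_self, one_pow]
  by_cases h1 : a = c
  · subst h1
    by_cases h2 : b = d
    · subst h2; exact same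
    · exact three a b d hab hcd h2
  by_cases h2 : a = d
  · subst h2
    rw [swap_comm c a]
    by_cases h3 : b = c
    · subst h3; exact same
    · exact three a b c hab h1 h3
  by_cases h3 : b = c
  · subst h3
    rw [swap_comm a b]
    exact three b a d (Ne.symm hab) hcd h2
  by_cases h4 : b = d
  · subst h4
    rw [swap_comm a b, swap_comm c b]
    exact three b a c (Ne.symm hab) (Ne.symm hcd) h1
  have h5 : Commute (swap a b) (swap c d) := (Perm.disjoint_swap_swap (by simp; tauto)).commute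
  rw [h5.mul_pow, show 6 = 2 * 3 from rfl, pow_mul, pow_mul, pow_two, pow_two, swap_mul_self, swap_mul_self, one_pow,
    one_mul]

/-- a permutation supported on the fixed points of `k` that moves `a, b` to `p, q` -/
theorem exists_move {k : Perm (Fin n)} {a b p q : Fin n} (hab : a ≠ b) (hpq : p ≠ q) (ha : k a = a) (hb : k b = b)
    (hp : k p = p) (hq : k q = q) : ∃ π : Perm (Fin n), π * k = k * π ∧ π a = p ∧ π b = q := by
  classical
  have h1 : ∀ x y : Fin n, k x = x → k y = y → swap x y * k = k * swap x y := by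
    intro x y hx hy
    rw [mul_swap_eq_swap_mul, hx, hy]
  set b' := swap a p b with hb'
  have hkb : k b' = b' := by
    rw [hb']
    by_cases h2 : b = a
    · exact absurd h2.symm hab
    by_cases h3 : b = p
    · rw [h3, swap_apply_right]; exact ha
    · rw [swap_apply_of_ne_of_ne h2 h3]; exact hb
  have hbp : b' ≠ p := by
    intro h2
    apply hab
    apply (swap a p).injective
    rw [← hb', h2, swap_apply_left]
  refine ⟨swap b' q * swap a p, ?_, ?_, ?_⟩
  · rw [mul_assoc, h1 _ _ ha hp, ← mul_assoc, h1 _ _ hkb hq, mul_assoc]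
  · rw [Perm.mul_apply, swap_apply_left, swap_apply_of_ne_of_ne (Ne.symm hbp) hpq]
  · rw [Perm.mul_apply, ← hb', swap_apply_left]

theorem FA_conj' {e a : Perm (Fin n)} (c : Perm (Fin n)) (ha : a ∈ FA e) : c * a * c⁻¹ ∈ FA (c * e * c⁻¹) := by
  obtain ⟨h1, h2⟩ := mem_FA.1 ha
  refine mem_FA.2 ⟨?_, fun x hx => ?_⟩
  · rw [Perm.sign_mul, Perm.sign_mul, h1, Perm.sign_inv]
    rcases Int.units_eq_one_or (Perm.sign c) with h | h <;> rw [h] <;> decide
  · have h3 : e (c⁻¹ x) ≠ c⁻¹ x := by
      intro h4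
      apply hx
      rw [Perm.mul_apply, Perm.mul_apply, h4, ← Perm.mul_apply, mul_inv_cancel, Perm.one_apply]
    rw [Perm.mul_apply, Perm.mul_apply, h2 _ h3, ← Perm.mul_apply, mul_inv_cancel, Perm.one_apply]

/-- The output of the first part of MATCH: `e^g = z κ η` with `η` an odd involution of `Fix k`. -/
structure Pre (t : G) (j : Perm (Fin n) →* G) (k : Perm (Fin n)) (p q : Fin n) (g z : G) (κ η : Perm (Fin n)) :
    Prop where
  hz : z = 1 ∨ z = t
  hκ : κ = 1 ∨ κ = k
  gt : g * t * g⁻¹ = t * j k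
  gk : g * j k * g⁻¹ = j k
  ge : g * j (swap p q) * g⁻¹ = z * j (κ * η)
  gl : ∀ l ∈ FA k, ∃ l' ∈ FA k, g * j l * g⁻¹ = j l'
  ηη : η * η = 1
  ηs : Perm.sign η = -1
  hη : ∀ a, k a ≠ a → η a = a
  six : ∀ l ∈ FA k, (η * (l * η * l⁻¹)) ^ 6 = 1

/-- **MATCH**, first part -/
theorem exists_pre (hn : 6 ≤ n) {t : G} {j : Perm (Fin n) →* G} (h : Sp t j) {k : Perm (Fin n)} (kk : k * k = 1)
    (k1 : k ≠ 1) (s : Perm.sign k = 1) (hc : IsConj t (t * j k)) {p q : Fin n} (hpq : p ≠ q) (hp : k p = p)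
    (hq : k q = q) : ∃ g z κ η, Pre t j k p q g z κ η := by
  classical
  obtain ⟨u, hu⟩ := isConj_iff.1 hc
  set x := t * j k with hx
  set jx : Perm (Fin n) →* G := (MulAut.conj u).toMonoidHom.comp j with hjx
  have hjx' : ∀ a, jx a = u * j a * u⁻¹ := fun a => rfl
  have hX : Sp x jx := by
    have := h.conj u
    rwa [hu] at this
  obtain ⟨k', T⟩ := exists_two hn h hX rfl kk k1 s
  have h2 : 2 ≤ (Finset.univ.filter fun a => k a = a).card := by
    have h3 : ({p, q} : Finset (Fin n)) ⊆ Finset.univ.filter fun a => k a = a := by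
      intro y hy
      rw [Finset.mem_insert, Finset.mem_singleton] at hy
      rcases hy with rfl | rfl
      · simpa using hp
      · simpa using hq
    calc 2 = ({p, q} : Finset (Fin n)).card := (Finset.card_pair hpq).symm
      _ ≤ _ := Finset.card_le_card h3
  obtain ⟨π, hπ⟩ := exists_conj_of_card kk T.kk' (T.supp_eq h2)
  -- the element `g`
  set g := u * j π with hg
  have gj : ∀ a, g * j a * g⁻¹ = jx (π * a * π⁻¹) := by
    intro a
    rw [hjx', hg, map_mul, map_mul, map_inv]
    group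
  have gt : g * t * g⁻¹ = x := by
    rw [← hu, hg]
    calc u * j π * t * (u * j π)⁻¹ = u * (j π * t) * (j π)⁻¹ * u⁻¹ := by group
      _ = u * (t * j π) * (j π)⁻¹ * u⁻¹ := by rw [h.comm]
      _ = u * t * u⁻¹ := by group
  have gk : g * j k * g⁻¹ = j k := by rw [gj, hπ, T.jk]
  set e := swap p q with he
  set e' := π * e * π⁻¹ with he'
  have he'' : e' = swap (π p) (π q) := by
    rw [he', he, mul_swap_eq_swap_mul, mul_inv_cancel_right]
  have hek : e * k = k * e := by
    rw [he, mul_swap_eq_swap_mul, hp, hq]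
  have hk'p : k' (π p) = π p := by
    rw [← hπ]; simp [hp]
  have hk'q : k' (π q) = π q := by
    rw [← hπ]; simp [hq]
  have he's : Perm.sign e' = -1 := by
    rw [he'', Perm.sign_swap (fun h => hpq (π.injective h))]
  have hek' : e' * k' = k' * e' := by
    rw [he'', mul_swap_eq_swap_mul, hk'p, hk'q]
  -- `e1 = jx e' = z j σ`
  obtain ⟨z, σ, hz, hσ, hσk⟩ := T.symm.cent_jc hek'
  have hσσ : σ * σ = 1 := by
    apply h.inj
    have h3 : jx e' * jx e' = 1 := by
      rw [← map_mul, he'', swap_mul_self, map_one]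
    rw [hσ] at h3
    calc j (σ * σ) = (z * z) * (j σ * j σ) := by rw [h.zz hz, one_mul, map_mul]
      _ = z * (z * j σ) * j σ := by group
      _ = z * (j σ * z) * j σ := by rw [h.zcomm hz]
      _ = z * j σ * (z * j σ) := by group
      _ = j 1 := by rw [h3, map_one]
  -- commutators
  have hFA : ∀ c : Perm (Fin n), c * k = k * c → ⁅σ, c⁆ ∈ FA k := by
    intro c hck
    obtain ⟨y, c', hy, hc', hck'⟩ := T.cent_jc hck
    have h3 : j ⁅σ, c⁆ = jx ⁅e', c'⁆ := by
      have h4 := hX.comm_j (Or.inl rfl) hy e' c'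
      rw [one_mul, ← hc', hσ] at h4
      have h5 := h.comm_j hz (Or.inl rfl) σ c
      rw [one_mul] at h5
      rw [← h4, h5]
    have h4 : ⁅e', c'⁆ ∈ FA k' := by
      rw [commutatorElement_def]
      have h5 : e' * c' * e'⁻¹ * c'⁻¹ = e' * (c' * e'⁻¹ * c'⁻¹) := by group
      have h6 : c' * e'⁻¹ * c'⁻¹ = swap (c' (π p)) (c' (π q)) := by
        rw [he'', swap_inv, mul_swap_eq_swap_mul, mul_inv_cancel_right]
      have h7 : ∀ y, k' y = y → k' (c' y) = c' y := by
        intro y hy
        have := congrArg (fun g : Perm (Fin n) => g y) hck'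
        simp only [Perm.mul_apply] at this
        rw [← this, hy]
      rw [h5, h6]
      refine mem_FA.2 ⟨?_, ?_⟩
      · rw [Perm.sign_mul, he's, Perm.sign_swap (fun h => hpq (π.injective (c'.injective h)))]
        decide
      · intro y hy
        rw [Perm.mul_apply, swap_apply_of_ne_of_ne, he'', swap_apply_of_ne_of_ne]
        · rintro rfl; exact hy hk'p
        · rintro rfl; exact hy hk'q
        · rintro rfl; exact hy (h7 _ hk'p)
        · rintro rfl; exact hy (h7 _ hk'q)
    have h5 : j ⁅σ, c⁆ ∈ (FA k).map j := by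
      rw [T.map_eq, h3]; exact mem_map_of_mem _ h4
    obtain ⟨c1, hc1, hc2⟩ := h5
    rwa [← h.inj hc2]
  have hsupp := supp_cases kk hσk (by
    intro c hck a ha
    obtain ⟨_, h4⟩ := mem_FA.1 (hFA c hck)
    rw [commutatorElement_def] at h4
    have h5 : ∀ y, k y ≠ y → ∀ m : Perm (Fin n), m * k = k * m → k (m y) ≠ m y := by
      intro y hy m hm h6
      apply hy
      apply m.injective
      have := congrArg (fun g : Perm (Fin n) => g y) hm
      simp only [Perm.mul_apply] at this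
      rw [this, h6]
    have h6 := h4 (c (σ a)) (h5 _ (h5 _ ha σ hσk) c hck)
    simpa using h6)
  -- `σ = k^b h`
  obtain ⟨κ, η, hκ, hσ', hη⟩ : ∃ κ η : Perm (Fin n), (κ = 1 ∨ κ = k) ∧ σ = κ * η ∧ ∀ a, k a ≠ a → η a = a := by
    rcases hsupp with h3 | h3
    · exact ⟨1, σ, Or.inl rfl, (one_mul _).symm, h3⟩
    · refine ⟨k, k * σ, Or.inr rfl, by rw [← mul_assoc, kk, one_mul], ?_⟩
      intro a ha
      rw [Perm.mul_apply, h3 a ha, inv2 kk]
  have hκκ : κ * κ = 1 := by rcases hκ with rfl | rfl <;> [exact one_mul 1; exact kk]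
  have hκk : κ * k = k * κ := by rcases hκ with rfl | rfl <;> [rw [one_mul, mul_one]; rfl]
  have hκσ : κ * σ = σ * κ := by rcases hκ with rfl | rfl <;> [rw [one_mul, mul_one]; exact hσk.symm]
  have hησ : η = κ * σ := by rw [hσ', ← mul_assoc, hκκ, one_mul]
  have hηη : η * η = 1 := by
    rw [hησ]
    calc κ * σ * (κ * σ) = κ * (σ * κ) * σ := by group
      _ = (κ * κ) * (σ * σ) := by rw [← hκσ]; group
      _ = 1 := by rw [hκκ, hσσ, one_mul]
  have hηs : Perm.sign η = -1 := by
    rcases Int.units_eq_one_or (Perm.sign η) with h3 | h3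
    · exfalso
      have h4 : j η ∈ (FA k').map jx := by
        rw [← T.map_eq]; exact mem_map_of_mem _ (mem_FA.2 ⟨h3, hη⟩)
      obtain ⟨η', hη', hηj⟩ := h4
      obtain ⟨κ', hκ', hκj⟩ : ∃ κ', Perm.sign κ' = 1 ∧ j κ = jx κ' := by
        rcases hκ with rfl | rfl
        · exact ⟨1, Perm.sign_one, by rw [map_one, map_one]⟩
        · exact ⟨k', T.s', T.jk⟩
      have h5 : jx e' = z * jx (κ' * η') := by
        rw [hσ, hσ', map_mul, map_mul, hκj, hηj]
      have h6 : ∃ y m, (y = 1 ∨ y = x) ∧ Perm.sign m = 1 ∧ z = y * jx m := by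
        rcases hz with rfl | rfl
        · exact ⟨1, 1, Or.inl rfl, Perm.sign_one, by rw [map_one, one_mul]⟩
        · exact ⟨x, k', Or.inr rfl, T.s', T.tx⟩
      obtain ⟨y, m, hy, hm, hzy⟩ := h6
      rw [hzy, mul_assoc, ← map_mul] at h5
      obtain ⟨_, h7⟩ := hX.uniq hy h5.symm
      have h8 := congrArg Perm.sign h7
      rw [Perm.sign_mul, Perm.sign_mul, hm, hκ', (mem_FA.1 hη').1, he's] at h8
      exact absurd h8 (by decide)
    · exact h3
  refine ⟨g, z, κ, η, hz, hκ, gt, gk, ?_, ?_, hηη, hηs, hη, ?_⟩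
  · rw [gj, ← he', hσ, hσ']
  · intro l hl
    have h3 : jx (π * l * π⁻¹) ∈ (FA k').map jx := by
      apply mem_map_of_mem
      rw [← hπ]
      exact FA_conj' π hl
    rw [← T.map_eq] at h3
    obtain ⟨l', hl', hl2⟩ := h3
    exact ⟨l', hl', by rw [gj, hl2]⟩
  · intro l hlF
    have hlk := FA_comm kk hlF
    have h3 : j l ∈ (FA k').map jx := by rw [← T.map_eq]; exact mem_map_of_mem _ hlF
    obtain ⟨l', hl1, hl2⟩ := h3
    apply h.inj
    rw [map_pow, map_one]
    have hκl : κ * l = l * κ := by rcases hκ with rfl | rfl <;> [rw [one_mul, mul_one]; exact hlk.symm]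
    have h4 : j (η * (l * η * l⁻¹)) = jx (e' * (l' * e' * l'⁻¹)) := by
      have h5 : σ * (l * σ * l⁻¹) = η * (l * η * l⁻¹) := by
        have h6 : σ = η * κ := by rw [hησ, hκσ, mul_assoc, hκκ, mul_one]
        calc σ * (l * σ * l⁻¹) = (η * κ) * (l * (κ * η) * l⁻¹) := by rw [← h6, ← hσ']
          _ = η * κ * (l * κ) * η * l⁻¹ := by group
          _ = η * κ * (κ * l) * η * l⁻¹ := by rw [hκl]
          _ = η * (κ * κ) * (l * η * l⁻¹) := by group
          _ = η * (l * η * l⁻¹) := by rw [hκκ, mul_one]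
      rw [← h5]
      have h6 : jx (e' * (l' * e' * l'⁻¹)) = (z * j σ) * (j l * (z * j σ) * (j l)⁻¹) := by
        rw [map_mul jx e', map_mul jx (l' * e'), map_mul jx l' e', map_inv, ← hl2, hσ]
      rw [h6]
      calc j (σ * (l * σ * l⁻¹)) = z * z * (j σ * (j l * j σ * (j l)⁻¹)) := by
            rw [h.zz hz, one_mul, map_mul, map_mul, map_mul, map_inv]
        _ = z * (z * j σ) * j l * j σ * (j l)⁻¹ := by group
        _ = z * (j σ * z) * j l * j σ * (j l)⁻¹ := by rw [h.zcomm hz]
        _ = z * j σ * (z * j l) * j σ * (j l)⁻¹ := by group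
        _ = z * j σ * (j l * z) * j σ * (j l)⁻¹ := by rw [h.zcomm hz l]
        _ = z * j σ * (j l * (z * j σ) * (j l)⁻¹) := by group
    rw [h4, ← map_pow]
    have h5 : l' * e' * l'⁻¹ = swap (l' (π p)) (l' (π q)) := by
      rw [he'', mul_swap_eq_swap_mul, mul_inv_cancel_right]
    rw [h5, he'', swap_mul_swap_pow, map_one]

/-- The conclusion of MATCH. -/
def Mat (t : G) (j : Perm (Fin n) →* G) (k : Perm (Fin n)) (p q : Fin n) : Prop :=
  ∃ g : G, g * t * g⁻¹ = t * j k ∧ g * j k * g⁻¹ = j k ∧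
    (g * j (swap p q) * g⁻¹ = j (swap p q) ∨ g * (t * j (swap p q)) * g⁻¹ = t * j (swap p q))

/-- **MATCH**, second part: `η` a transposition -/
theorem Pre.mat {t : G} {j : Perm (Fin n) →* G} (h : Sp t j) {k : Perm (Fin n)} (kk : k * k = 1)
    (k1 : k ≠ 1) {p q : Fin n} (hpq : p ≠ q) (hp : k p = p) (hq : k q = q) {g z : G} {κ η : Perm (Fin n)}
    (P : Pre t j k p q g z κ η) {a b : Fin n} (hab : a ≠ b) (hη' : η = swap a b) : Mat t j k p q := by
  obtain ⟨hz, hκ, gt, gk, ge, gl, hηη, hηs, hη, -⟩ := P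
  have ha' : k a = a := by
    by_contra h1
    have h2 := hη a h1
    rw [hη', swap_apply_left] at h2
    exact hab h2.symm
  have hb' : k b = b := by
    by_contra h1
    have h2 := hη b h1
    rw [hη', swap_apply_right] at h2
    exact hab h2
  have hκκ : κ * κ = 1 := by rcases hκ with rfl | rfl <;> [exact one_mul 1; exact kk]
  have jkk : j k * j k = 1 := by rw [← map_mul, kk, map_one]
  obtain ⟨π', hπ'k, hπa, hπb⟩ := exists_move hab hpq ha' hb' hp hq
  -- the final `g`
  set g' := j π' * g with hg'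
  have c1 : ∀ w : G, g' * w * g'⁻¹ = j π' * (g * w * g⁻¹) * (j π')⁻¹ := by
    intro w; rw [hg']; group
  have g't : g' * t * g'⁻¹ = t * j k := by
    rw [c1, gt]
    have : j π' * (t * j k) = t * j k * j π' := by
      rw [← mul_assoc, ← h.comm, mul_assoc, ← map_mul, hπ'k, map_mul, mul_assoc]
    rw [this, mul_inv_cancel_right]
  have g'k : g' * j k * g'⁻¹ = j k := by
    rw [c1, gk, ← map_mul, hπ'k, map_mul, mul_inv_cancel_right]
  have g'e : g' * j (swap p q) * g'⁻¹ = z * j (κ * swap p q) := by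
    rw [c1, ge]
    have h3 : j π' * (z * j (κ * η)) * (j π')⁻¹ = z * j (π' * (κ * η) * π'⁻¹) := by
      rw [map_mul j (π' * (κ * η)), map_mul j π', map_inv, ← mul_assoc, ← h.zcomm hz]
      group
    rw [h3]
    congr 2
    rw [hη']
    have h4 : π' * κ = κ * π' := by rcases hκ with rfl | rfl <;> [rw [one_mul, mul_one]; exact hπ'k]
    calc π' * (κ * swap a b) * π'⁻¹ = (π' * κ) * swap a b * π'⁻¹ := by group
      _ = κ * (π' * swap a b) * π'⁻¹ := by rw [h4]; group
      _ = κ * swap p q := by rw [mul_swap_eq_swap_mul, hπa, hπb]; group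
  refine ⟨g', g't, g'k, ?_⟩
  rcases hz with rfl | rfl
  · -- `z = 1`
    rcases hκ with rfl | rfl
    · left; rw [g'e, one_mul, one_mul]
    · right
      have : g' * (t * j (swap p q)) * g'⁻¹ = (g' * t * g'⁻¹) * (g' * j (swap p q) * g'⁻¹) := by group
      rw [this, g't, g'e, one_mul, map_mul, mul_assoc, ← mul_assoc (j κ), ← map_mul, kk, map_one, one_mul]
  · -- `z = t`: `g'²` conjugates `e` to `k e`
    exfalso
    have h3 : g' * g' * z * (g' * g')⁻¹ = z := by
      have : g' * g' * z * (g' * g')⁻¹ = g' * (g' * z * g'⁻¹) * g'⁻¹ := by group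
      rw [this, g't]
      have : g' * (z * j k) * g'⁻¹ = (g' * z * g'⁻¹) * (g' * j k * g'⁻¹) := by group
      rw [this, g't, g'k, mul_assoc, jkk, mul_one]
    have h4 : g' * g' * j (swap p q) * (g' * g')⁻¹ = j (k * swap p q) := by
      have h5 : g' * g' * j (swap p q) * (g' * g')⁻¹ = g' * (g' * j (swap p q) * g'⁻¹) * g'⁻¹ := by group
      have h6 : g' * j κ * g'⁻¹ = j κ := by
        rcases hκ with rfl | rfl
        · rw [map_one]; group
        · exact g'k
      have h7 : g' * (z * j (κ * swap p q)) * g'⁻¹ =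
          (g' * z * g'⁻¹) * (g' * j κ * g'⁻¹) * (g' * j (swap p q) * g'⁻¹) := by
        rw [map_mul]; group
      rw [h5, g'e, h7, g't, h6, g'e]
      calc z * j k * j κ * (z * j (κ * swap p q)) = z * (j k * j κ * z) * j (κ * swap p q) := by group
        _ = z * (z * (j k * j κ)) * j (κ * swap p q) := by rw [← map_mul, h.comm]
        _ = (z * z) * j (k * κ * (κ * swap p q)) := by rw [map_mul j (k * κ), map_mul j k κ]; group
        _ = j (k * swap p q) := by
          rw [h.tt, one_mul]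
          congr 1
          rw [mul_assoc, ← mul_assoc κ, hκκ, one_mul]
    obtain ⟨y, c, hy, hc2⟩ := h.cent (g' * g') (by
      rw [mul_inv_eq_iff_eq_mul] at h3
      exact h3)
    rw [hc2, h.conj_j hy] at h4
    exact not_conj k1 hp hq hpq (h.inj h4)

/-- **MATCH** -/
theorem exists_match (hn : 6 ≤ n) {t : G} {j : Perm (Fin n) →* G} (h : Sp t j) {k : Perm (Fin n)} (kk : k * k = 1)
    (k1 : k ≠ 1) (s : Perm.sign k = 1) (hc : IsConj t (t * j k)) {p q : Fin n} (hpq : p ≠ q) (hp : k p = p)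
    (hq : k q = q) (h6 : (Finset.univ.filter fun a => k a = a).card ≠ 6) :
    ∃ g : G, g * t * g⁻¹ = t * j k ∧ g * j k * g⁻¹ = j k ∧
      (g * j (swap p q) * g⁻¹ = j (swap p q) ∨ g * (t * j (swap p q)) * g⁻¹ = t * j (swap p q)) := by
  classical
  obtain ⟨g, z, κ, η, P⟩ := exists_pre hn h kk k1 s hc hpq hp hq
  obtain ⟨a, b, hab, -, -, hη'⟩ := eq_swap P.ηη P.ηs (Finset.univ.filter fun a => k a = a) (by
    intro y hy
    by_contra hcon
    exact hy (P.hη y (by simpa using hcon))) h6 (fun l hl hl' =>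
      P.six l (mem_FA.2 ⟨hl, fun a ha => hl' a (by simpa using ha)⟩))
  exact P.mat h kk k1 hpq hp hq hab hη'

end Cfsg.Agent.OddHalf.D5.Sym

end
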