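import Cfsg.Agent.OddHalf.D5.Sym.Match
import Cfsg.Agent.OddHalf.D5.ElemNorm
import Cfsg.Agent.OddHalf.D5.Sym.Good

-- merged: Cfsg.Agent.OddHalf.D5.Sym.Core
section

/-!
# ODD D5, `C_G(t) = ⟨t⟩ × S_n`: the pieces of `exists_match` (cut out of helper704's proof by helper59)

`Two.core`: in the situation `Two t x j jx k k'` the transposition `jx (p q)`, `p, q` fixed by `k'`, is `z j(κ η)`,
`z ∈ ⟨t⟩`, `κ ∈ ⟨k⟩`, `η` an odd involution on the fixed points of `k`. `finish`: the last step of `exists_match`.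
-/

set_option autoImplicit false

namespace Cfsg.Agent.OddHalf.D5.Sym

open Subgroup Equiv Cfsg.Agent.OddHalf.D5.QPerm
open scoped commutatorElement

variable {G : Type*} [Group G] {n : ℕ} {t x : G} {j jx : Perm (Fin n) →* G} {k k' : Perm (Fin n)}

theorem Two.core (T : Two t x j jx k k') {p q : Fin n} (hpq : p ≠ q) (hp : k' p = p) (hq : k' q = q) :
    ∃ (z : G) (κ η : Perm (Fin n)), (z = 1 ∨ z = t) ∧ (κ = 1 ∨ κ = k) ∧ (∀ a, k a ≠ a → η a = a) ∧ η * η = 1 ∧
      Perm.sign η = -1 ∧ jx (swap p q) = z * j (κ * η) ∧ ∀ l ∈ FA k, (η * (l * η * l⁻¹)) ^ 6 = 1 := by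
  classical
  have h := T.h
  have hX := T.hx
  have kk := T.kk
  set e' : Perm (Fin n) := swap p q with he''
  have he's : Perm.sign e' = -1 := by
    rw [he'', Perm.sign_swap hpq]
  have hek' : e' * k' = k' * e' := by
    rw [he'', mul_swap_eq_swap_mul, hp, hq]
  -- `e1 = jx e' = z j σ`
  obtain ⟨z, σ, hz, hσ, hσk⟩ := T.symm.cent_jc hek'
  have hσσ : σ * σ = 1 := by
    apply h.inj
    have h3 : jx e' * jx e' = 1 := by
      rw [← map_mul, he'', swap_mul_self, map_one]
    rw [hσ] at h3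
    calc j (σ * σ) = (z * z) * (j σ * j σ) := by rw [h.zz hz, one_mul, map_mul]
      _ = z * (z * j σ) * j σ := by group
      _ = z * (j σ * z) * j σ := by rw [h.zcomm hz]
      _ = z * j σ * (z * j σ) := by group
      _ = j 1 := by rw [h3, map_one]
  -- commutators
  have hFA : ∀ c : Perm (Fin n), c * k = k * c → ⁅σ, c⁆ ∈ FA k := by
    intro c hck
    obtain ⟨y, c', hy, hc', hck'⟩ := T.cent_jc hck
    have h3 : j ⁅σ, c⁆ = jx ⁅e', c'⁆ := by
      have h4 := hX.comm_j (Or.inl rfl) hy e' c'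
      rw [one_mul, ← hc', hσ] at h4
      have h5 := h.comm_j hz (Or.inl rfl) σ c
      rw [one_mul] at h5
      rw [← h4, h5]
    have h4 : ⁅e', c'⁆ ∈ FA k' := by
      rw [commutatorElement_def]
      have h5 : e' * c' * e'⁻¹ * c'⁻¹ = e' * (c' * e'⁻¹ * c'⁻¹) := by group
      have h6 : c' * e'⁻¹ * c'⁻¹ = swap (c' p) (c' q) := by
        rw [he'', swap_inv, mul_swap_eq_swap_mul, mul_inv_cancel_right]
      have h7 : ∀ y, k' y = y → k' (c' y) = c' y := by
        intro y hy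
        have := congrArg (fun g : Perm (Fin n) => g y) hck'
        simp only [Perm.mul_apply] at this
        rw [← this, hy]
      rw [h5, h6]
      refine mem_FA.2 ⟨?_, ?_⟩
      · rw [Perm.sign_mul, he's, Perm.sign_swap (fun h => hpq (c'.injective h))]
        decide
      · intro y hy
        have a1 : swap (c' p) (c' q) y = y := by
          apply swap_apply_of_ne_of_ne
          · rintro rfl; exact hy (h7 _ hp)
          · rintro rfl; exact hy (h7 _ hq)
        have a2 : e' y = y := by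
          apply swap_apply_of_ne_of_ne
          · rintro rfl; exact hy hp
          · rintro rfl; exact hy hq
        rw [Perm.mul_apply, a1, a2]
    have h5 : j ⁅σ, c⁆ ∈ (FA k).map j := by
      rw [T.map_eq, h3]; exact mem_map_of_mem _ h4
    obtain ⟨c1, hc1, hc2⟩ := h5
    rwa [← h.inj hc2]
  have hsupp := supp_cases kk hσk (by
    intro c hck a ha
    obtain ⟨_, h4⟩ := mem_FA.1 (hFA c hck)
    rw [commutatorElement_def] at h4
    have h5 : ∀ y, k y ≠ y → ∀ m : Perm (Fin n), m * k = k * m → k (m y) ≠ m y := by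
      intro y hy m hm h6
      apply hy
      apply m.injective
      have := congrArg (fun g : Perm (Fin n) => g y) hm
      simp only [Perm.mul_apply] at this
      rw [this, h6]
    have h6 := h4 (c (σ a)) (h5 _ (h5 _ ha σ hσk) c hck)
    simpa using h6)
  -- `σ = k^b h`
  obtain ⟨κ, η, hκ, hσ', hη⟩ : ∃ κ η : Perm (Fin n), (κ = 1 ∨ κ = k) ∧ σ = κ * η ∧ ∀ a, k a ≠ a → η a = a := by
    rcases hsupp with h3 | h3
    · exact ⟨1, σ, Or.inl rfl, (one_mul _).symm, h3⟩
    · refine ⟨k, k * σ, Or.inr rfl, by rw [← mul_assoc, kk, one_mul], ?_⟩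
      intro a ha
      rw [Perm.mul_apply, h3 a ha, inv2 kk]
  have hκκ : κ * κ = 1 := by rcases hκ with rfl | rfl <;> [exact one_mul 1; exact kk]
  have hκk : κ * k = k * κ := by rcases hκ with rfl | rfl <;> [rw [one_mul, mul_one]; rfl]
  have hκσ : κ * σ = σ * κ := by rcases hκ with rfl | rfl <;> [rw [one_mul, mul_one]; exact hσk.symm]
  have hησ : η = κ * σ := by rw [hσ', ← mul_assoc, hκκ, one_mul]
  have hηη : η * η = 1 := by
    rw [hησ]
    calc κ * σ * (κ * σ) = κ * (σ * κ) * σ := by group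
      _ = (κ * κ) * (σ * σ) := by rw [← hκσ]; group
      _ = 1 := by rw [hκκ, hσσ, one_mul]
  have hηs : Perm.sign η = -1 := by
    rcases Int.units_eq_one_or (Perm.sign η) with h3 | h3
    · exfalso
      have h4 : j η ∈ (FA k').map jx := by
        rw [← T.map_eq]; exact mem_map_of_mem _ (mem_FA.2 ⟨h3, hη⟩)
      obtain ⟨η', hη', hηj⟩ := h4
      obtain ⟨κ', hκ', hκj⟩ : ∃ κ', Perm.sign κ' = 1 ∧ j κ = jx κ' := by
        rcases hκ with rfl | rfl
        · exact ⟨1, Perm.sign_one, by rw [map_one, map_one]⟩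
        · exact ⟨k', T.s', T.jk⟩
      have h5 : jx e' = z * jx (κ' * η') := by
        rw [hσ, hσ', map_mul, map_mul, hκj, hηj]
      have h6 : ∃ y m, (y = 1 ∨ y = x) ∧ Perm.sign m = 1 ∧ z = y * jx m := by
        rcases hz with rfl | rfl
        · exact ⟨1, 1, Or.inl rfl, Perm.sign_one, by rw [map_one, one_mul]⟩
        · exact ⟨x, k', Or.inr rfl, T.s', T.tx⟩
      obtain ⟨y, m, hy, hm, hzy⟩ := h6
      rw [hzy, mul_assoc, ← map_mul] at h5
      obtain ⟨_, h7⟩ := hX.uniq hy h5.symm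
      have h8 := congrArg Perm.sign h7
      rw [Perm.sign_mul, Perm.sign_mul, hm, hκ', (mem_FA.1 hη').1, he's] at h8
      exact absurd h8 (by decide)
    · exact h3
  refine ⟨z, κ, η, hz, hκ, hη, hηη, hηs, by rw [hσ, hσ'], ?_⟩
  intro l hlF
  have hlk := FA_comm kk hlF
  have h3 : j l ∈ (FA k').map jx := by rw [← T.map_eq]; exact mem_map_of_mem _ hlF
  obtain ⟨l', hl1, hl2⟩ := h3
  apply h.inj
  rw [map_pow, map_one]
  have hκl : κ * l = l * κ := by rcases hκ with rfl | rfl <;> [rw [one_mul, mul_one]; exact hlk.symm]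
  have h4 : j (η * (l * η * l⁻¹)) = jx (e' * (l' * e' * l'⁻¹)) := by
    have h5 : σ * (l * σ * l⁻¹) = η * (l * η * l⁻¹) := by
      have h6 : σ = η * κ := by rw [hησ, hκσ, mul_assoc, hκκ, mul_one]
      calc σ * (l * σ * l⁻¹) = (η * κ) * (l * (κ * η) * l⁻¹) := by rw [← h6, ← hσ']
        _ = η * κ * (l * κ) * η * l⁻¹ := by group
        _ = η * κ * (κ * l) * η * l⁻¹ := by rw [hκl]
        _ = η * (κ * κ) * (l * η * l⁻¹) := by group
        _ = η * (l * η * l⁻¹) := by rw [hκκ, mul_one]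
    rw [← h5]
    have h6 : jx (e' * (l' * e' * l'⁻¹)) = (z * j σ) * (j l * (z * j σ) * (j l)⁻¹) := by
      rw [map_mul jx e', map_mul jx (l' * e'), map_mul jx l' e', map_inv, ← hl2, hσ]
    rw [h6]
    calc j (σ * (l * σ * l⁻¹)) = z * z * (j σ * (j l * j σ * (j l)⁻¹)) := by
          rw [h.zz hz, one_mul, map_mul, map_mul, map_mul, map_inv]
      _ = z * (z * j σ) * j l * j σ * (j l)⁻¹ := by group
      _ = z * (j σ * z) * j l * j σ * (j l)⁻¹ := by rw [h.zcomm hz]
      _ = z * j σ * (z * j l) * j σ * (j l)⁻¹ := by group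
      _ = z * j σ * (j l * z) * j σ * (j l)⁻¹ := by rw [h.zcomm hz l]
      _ = z * j σ * (j l * (z * j σ) * (j l)⁻¹) := by group
  rw [h4, ← map_pow]
  have h5 : l' * e' * l'⁻¹ = swap (l' p) (l' q) := by
    rw [he'', mul_swap_eq_swap_mul, mul_inv_cancel_right]
  rw [h5, he'', swap_mul_swap_pow, map_one]

/-- the last step of `exists_match` -/
theorem finish (h : Sp t j) (kk : k * k = 1) (k1 : k ≠ 1) {p q : Fin n} (hpq : p ≠ q) (hp : k p = p)
    (hq : k q = q) {g z : G} {κ : Perm (Fin n)} (gt : g * t * g⁻¹ = t * j k) (gk : g * j k * g⁻¹ = j k)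
    (hz : z = 1 ∨ z = t) (hκ : κ = 1 ∨ κ = k) (ge : g * j (swap p q) * g⁻¹ = z * j (κ * swap p q)) :
    g * j (swap p q) * g⁻¹ = j (swap p q) ∨ g * (t * j (swap p q)) * g⁻¹ = t * j (swap p q) := by
  classical
  set e := swap p q with he
  have hκκ : κ * κ = 1 := by rcases hκ with rfl | rfl <;> [exact one_mul 1; exact kk]
  have jkk : j k * j k = 1 := by rw [← map_mul, kk, map_one]
  rcases hz with rfl | rfl
  · -- `z = 1`
    rcases hκ with rfl | rfl
    · left; rw [ge, one_mul, one_mul]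
    · right
      have : g * (t * j e) * g⁻¹ = (g * t * g⁻¹) * (g * j e * g⁻¹) := by group
      rw [this, gt, ge, one_mul, map_mul, mul_assoc, ← mul_assoc (j κ), ← map_mul, kk, map_one, one_mul]
  · -- `z = t`: `g²` conjugates `e` to `k e`
    exfalso
    have h3 : g * g * z * (g * g)⁻¹ = z := by
      have : g * g * z * (g * g)⁻¹ = g * (g * z * g⁻¹) * g⁻¹ := by group
      rw [this, gt]
      have : g * (z * j k) * g⁻¹ = (g * z * g⁻¹) * (g * j k * g⁻¹) := by group
      rw [this, gt, gk, mul_assoc, jkk, mul_one]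
    have h4 : g * g * j e * (g * g)⁻¹ = j (k * e) := by
      have h5 : g * g * j e * (g * g)⁻¹ = g * (g * j e * g⁻¹) * g⁻¹ := by group
      have h6 : g * j κ * g⁻¹ = j κ := by
        rcases hκ with rfl | rfl
        · rw [map_one]; group
        · exact gk
      have h7 : g * (z * j (κ * e)) * g⁻¹ = (g * z * g⁻¹) * (g * j κ * g⁻¹) * (g * j e * g⁻¹) := by
        rw [map_mul]; group
      rw [h5, ge, h7, gt, h6, ge]
      calc z * j k * j κ * (z * j (κ * e)) = z * (j k * j κ * z) * j (κ * e) := by group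
        _ = z * (z * (j k * j κ)) * j (κ * e) := by rw [← map_mul, h.comm]
        _ = (z * z) * j (k * κ * (κ * e)) := by rw [map_mul j (k * κ), map_mul j k κ]; group
        _ = j (k * e) := by
          rw [h.tt, one_mul]
          congr 1
          rw [mul_assoc, ← mul_assoc κ, hκκ, one_mul]
    obtain ⟨y, c, hy, hc2⟩ := h.cent (g * g) (by
      rw [mul_inv_eq_iff_eq_mul] at h3
      exact h3)
    rw [hc2, h.conj_j hy] at h4
    exact not_conj k1 hp hq hpq (h.inj h4)

end Cfsg.Agent.OddHalf.D5.Sym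

end

-- merged: Cfsg.Agent.OddHalf.D5.Sym.Pair
section

/-!
# ODD D5, `C_G(t) = ⟨t⟩ × S_n`: views and pairs of views (helper59)

`exists_view`: `t^g = t k`, `k^g = k`. `pair`: two views `g₁`, `g₂` for `k₁`, `k₂` with the same fixed points, for which
a transposition `e` is mapped to `⟨t, k₁⟩ η`, `⟨t, k₂⟩ η` with the same `η`, give MATCH for some `m`.
-/

set_option autoImplicit false

namespace Cfsg.Agent.OddHalf.D5.Sym

open Subgroup Equiv Cfsg.Agent.OddHalf.D5.QPerm
open scoped commutatorElement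

variable {G : Type*} [Group G] {n : ℕ} {t x : G} {j jx : Perm (Fin n) →* G} {k k' : Perm (Fin n)}

/-- the homomorphism seen through `g` -/
def cjh (g : G) (j : Perm (Fin n) →* G) : Perm (Fin n) →* G := (MulAut.conj g).toMonoidHom.comp j

theorem cjh_apply (g : G) (j : Perm (Fin n) →* G) (a : Perm (Fin n)) : cjh g j a = g * j a * g⁻¹ := rfl

theorem sp_cjh (h : Sp t j) (g : G) : Sp (g * t * g⁻¹) (cjh g j) := h.conj g

/-- the basic view of `t k` -/
theorem exists_view (hn : 6 ≤ n) (h : Sp t j) (kk : k * k = 1) (k1 : k ≠ 1) (s : Perm.sign k = 1)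
    (hc : IsConj t (t * j k)) (h2 : 2 ≤ (Finset.univ.filter fun a => k a = a).card) :
    ∃ g : G, g * t * g⁻¹ = t * j k ∧ g * j k * g⁻¹ = j k := by
  classical
  obtain ⟨u, hu⟩ := isConj_iff.1 hc
  have hX : Sp (t * j k) (cjh u j) := by
    have := sp_cjh h u
    rwa [hu] at this
  obtain ⟨k', T⟩ := exists_two hn h hX rfl kk k1 s
  obtain ⟨π, hπ⟩ := exists_conj_of_card kk T.kk' (T.supp_eq h2)
  refine ⟨u * j π, ?_, ?_⟩
  · rw [← hu]
    calc u * j π * t * (u * j π)⁻¹ = u * (j π * t) * (j π)⁻¹ * u⁻¹ := by group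
      _ = u * (t * j π) * (j π)⁻¹ * u⁻¹ := by rw [h.comm]
      _ = u * t * u⁻¹ := by group
  · have h3 := T.jk
    rw [cjh_apply, ← hπ, map_mul, map_mul, map_inv] at h3
    refine Eq.trans ?_ h3.symm
    group

/-- a view as a `Two` -/
theorem two_of_view (h : Sp t j) (kk : k * k = 1) (k1 : k ≠ 1) (s : Perm.sign k = 1) {g : G}
    (gt : g * t * g⁻¹ = t * j k) (gk : g * j k * g⁻¹ = j k) : Two t (t * j k) j (cjh g j) k k where
  h := h
  hx := by have := sp_cjh h g; rwa [gt] at this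
  xt := rfl
  kk := kk
  kk' := kk
  jk := gk.symm
  s := s
  s' := s
  k1 := k1

/-- commutators of the centralizer of `k` are even in every view -/
theorem comm_mem (h : Sp t j) {g : G} (gt : g * t * g⁻¹ = t * j k) {a b : Perm (Fin n)} (ha : a * k = k * a)
    (hb : b * k = k * b) : ∃ m, Perm.sign m = 1 ∧ g * j m * g⁻¹ = j ⁅a, b⁆ := by
  have hx : Sp (t * j k) (cjh g j) := by have := sp_cjh h g; rwa [gt] at this
  have key : ∀ c : Perm (Fin n), c * k = k * c → j c * (t * j k) = (t * j k) * j c := by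
    intro c hc
    rw [← mul_assoc, ← h.comm, mul_assoc, ← map_mul, hc, map_mul, mul_assoc]
  obtain ⟨z, a', hz, ha'⟩ := hx.cent _ (key a ha)
  obtain ⟨z', b', hz', hb'⟩ := hx.cent _ (key b hb)
  refine ⟨⁅a', b'⁆, ?_, ?_⟩
  · rw [commutatorElement_def, Perm.sign_mul, Perm.sign_mul, Perm.sign_mul, Perm.sign_inv, Perm.sign_inv]
    rcases Int.units_eq_one_or (Perm.sign a') with h1 | h1 <;>
    rcases Int.units_eq_one_or (Perm.sign b') with h2 | h2 <;> rw [h1, h2] <;> decide
  · rw [map_commutatorElement j a b, ha', hb', hx.comm_j hz hz']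
    rfl

/-- a permutation commuting with `Alt(Fix k)` fixes `Fix k` pointwise -/
theorem fix_of_comm_FA {m : Perm (Fin n)} (h4 : 4 ≤ (Finset.univ.filter fun a => k a = a).card)
    (hm : ∀ l ∈ FA k, m * l = l * m) {a : Fin n} (ha : k a = a) : m a = a := by
  classical
  by_contra hne
  obtain ⟨b, hb, hba, hbm⟩ : ∃ b, k b = b ∧ b ≠ a ∧ b ≠ m a := by
    by_contra hcon
    push Not at hcon
    have h1 : (Finset.univ.filter fun a => k a = a) ⊆ {a, m a} := by
      intro b hb
      rw [Finset.mem_filter] at hb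
      rw [Finset.mem_insert, Finset.mem_singleton]
      by_cases h2 : b = a
      · exact Or.inl h2
      · exact Or.inr (hcon b hb.2 h2)
    have h2 := Finset.card_le_card h1
    have h3 : ({a, m a} : Finset (Fin n)).card ≤ 2 := Finset.card_le_two
    omega
  obtain ⟨c, hc, hca, hcm, hcb⟩ : ∃ c, k c = c ∧ c ≠ a ∧ c ≠ m a ∧ c ≠ b := by
    by_contra hcon
    push Not at hcon
    have h1 : (Finset.univ.filter fun a => k a = a) ⊆ {a, m a, b} := by
      intro c hc
      rw [Finset.mem_filter] at hc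
      rw [Finset.mem_insert, Finset.mem_insert, Finset.mem_singleton]
      by_cases h2 : c = a
      · exact Or.inl h2
      by_cases h3 : c = m a
      · exact Or.inr (Or.inl h3)
      · exact Or.inr (Or.inr (hcon c hc.2 h2 h3))
    have h2 := Finset.card_le_card h1
    have h3 : ({a, m a, b} : Finset (Fin n)).card ≤ 3 := Finset.card_le_three
    omega
  have hl : swap a b * swap a c ∈ FA k := by
    refine mem_FA.2 ⟨?_, ?_⟩
    · rw [Perm.sign_mul, Perm.sign_swap (Ne.symm hba), Perm.sign_swap (Ne.symm hca)]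
      decide
    · intro y hy
      have y1 : y ≠ a := by rintro rfl; exact hy ha
      have y2 : y ≠ b := by rintro rfl; exact hy hb
      have y3 : y ≠ c := by rintro rfl; exact hy hc
      rw [Perm.mul_apply, swap_apply_of_ne_of_ne y1 y3, swap_apply_of_ne_of_ne y1 y2]
  have h5 := congrArg (fun f : Perm (Fin n) => f a) (hm _ hl)
  simp only [Perm.mul_apply] at h5
  rw [swap_apply_left, swap_apply_of_ne_of_ne hca hcb, swap_apply_of_ne_of_ne hne (Ne.symm hcm),
    swap_apply_of_ne_of_ne hne (Ne.symm hbm)] at h5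
  exact hca (m.injective h5)

/-- the odd permutations of `Fix k` all go to `z κ (Sym(Fix k))` -/
theorem odd_image (T : Two t x j jx k k') {z : G} {κ r₀ r₁ : Perm (Fin n)} (hz : z = 1 ∨ z = t) (hκ : κ = 1 ∨ κ = k)
    (hr₀ : ∀ a, k' a ≠ a → r₀ a = a) (s₀ : Perm.sign r₀ = -1) (hr₁ : ∀ a, k a ≠ a → r₁ a = a)
    (he : jx r₀ = z * j (κ * r₁)) {r : Perm (Fin n)} (hr : ∀ a, k' a ≠ a → r a = a) (s : Perm.sign r = -1) :
    ∃ r', (∀ a, k a ≠ a → r' a = a) ∧ jx r = z * j (κ * r') := by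
  have h1 : r * r₀⁻¹ ∈ FA k' := by
    refine mem_FA.2 ⟨by rw [Perm.sign_mul, Perm.sign_inv, s, s₀]; decide, fun a ha => ?_⟩
    rw [Perm.mul_apply]
    have h2 : r₀⁻¹ a = a := by rw [Perm.inv_eq_iff_eq, hr₀ a ha]
    rw [h2, hr a ha]
  have h2 : jx (r * r₀⁻¹) ∈ (FA k).map j := by rw [T.map_eq]; exact mem_map_of_mem _ h1
  obtain ⟨l, hl, hl'⟩ := h2
  refine ⟨l * r₁, fun a ha => ?_, ?_⟩
  · rw [Perm.mul_apply, hr₁ a ha, (mem_FA.1 hl).2 a ha]
  · have h3 : r = (r * r₀⁻¹) * r₀ := by group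
    have h4 : l * κ = κ * l := by
      rcases hκ with rfl | rfl
      · rw [one_mul, mul_one]
      · exact FA_comm T.kk hl
    rw [h3, map_mul jx, ← hl', he, ← mul_assoc, ← T.h.zcomm hz, mul_assoc, ← map_mul, ← mul_assoc, h4, mul_assoc]

/-- **no `z = t`** -/
theorem z_one (h : Sp t j) (kk : k * k = 1) (k1 : k ≠ 1) (s : Perm.sign k = 1) {g z : G} {κ η : Perm (Fin n)}
    {p q : Fin n} (hpq : p ≠ q) (hp : k p = p) (hq : k q = q) (gt : g * t * g⁻¹ = t * j k)
    (gk : g * j k * g⁻¹ = j k) (hz : z = 1 ∨ z = t) (hκ : κ = 1 ∨ κ = k) (hη : ∀ a, k a ≠ a → η a = a)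
    (sη : Perm.sign η = -1) (ge : g * j (swap p q) * g⁻¹ = z * j (κ * η)) : z = 1 := by
  classical
  rcases hz with hz | hz
  · exact hz
  exfalso
  have T := two_of_view h kk k1 s gt gk
  have hE : ∀ a, k a ≠ a → swap p q a = a := fun a ha =>
    swap_apply_of_ne_of_ne (by rintro rfl; exact ha hp) (by rintro rfl; exact ha hq)
  obtain ⟨r', hr', hr⟩ := odd_image T (Or.inr hz) hκ hE (Perm.sign_swap hpq) hη ge hη sη
  have hκκ : κ * κ = 1 := by rcases hκ with rfl | rfl <;> [exact one_mul 1; exact kk]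
  have gκ : g * j κ * g⁻¹ = j κ := by
    rcases hκ with rfl | rfl
    · rw [map_one]; group
    · exact gk
  have jkk : j k * j k = 1 := by rw [← map_mul, kk, map_one]
  have h3 : g * g * t * (g * g)⁻¹ = t := by
    have : g * g * t * (g * g)⁻¹ = g * (g * t * g⁻¹) * g⁻¹ := by group
    rw [this, gt]
    have : g * (t * j k) * g⁻¹ = (g * t * g⁻¹) * (g * j k * g⁻¹) := by group
    rw [this, gt, gk, mul_assoc, jkk, mul_one]
  have h4 : g * g * j (swap p q) * (g * g)⁻¹ = j (k * r') := by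
    have h5 : g * g * j (swap p q) * (g * g)⁻¹ = g * (g * j (swap p q) * g⁻¹) * g⁻¹ := by group
    have h6 : g * (z * j (κ * η)) * g⁻¹ = (g * z * g⁻¹) * (g * j κ * g⁻¹) * (g * j η * g⁻¹) := by
      rw [map_mul]; group
    rw [h5, ge, h6, gκ, show g * j η * g⁻¹ = z * j (κ * r') from hr, hz, gt]
    calc t * j k * j κ * (t * j (κ * r')) = t * (j k * j κ * t) * j (κ * r') := by group
      _ = t * (t * (j k * j κ)) * j (κ * r') := by rw [← map_mul, h.comm]
      _ = (t * t) * j (k * κ * (κ * r')) := by rw [map_mul j (k * κ), map_mul j k κ]; group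
      _ = j (k * r') := by
        rw [h.tt, one_mul]
        congr 1
        rw [mul_assoc, ← mul_assoc κ, hκκ, one_mul]
  obtain ⟨y, c, hy, hc2⟩ := h.cent (g * g) (by rw [mul_inv_eq_iff_eq_mul] at h3; exact h3)
  rw [hc2, h.conj_j hy] at h4
  have h5 := h.inj h4
  rw [mul_swap_eq_swap_mul, mul_inv_cancel_right] at h5
  -- a transposition moves two letters, `k r'` at least four
  have h6 : k.support ⊆ (k * r').support := by
    intro a ha
    rw [Perm.mem_support] at ha ⊢
    rw [Perm.mul_apply, hr' a ha]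
    exact ha
  have h7 := Finset.card_le_card h6
  rw [← h5, Perm.card_support_swap (fun e => hpq (c.injective e))] at h7
  obtain ⟨b, hb⟩ := four_dvd_support kk s
  have h8 : 0 < k.support.card := by
    rw [Finset.card_pos]
    by_contra h9
    rw [Finset.not_nonempty_iff_eq_empty, Perm.support_eq_empty_iff] at h9
    exact k1 h9
  omega

/-- two full involutions of `Fix k` are conjugate by a permutation of `Fix k` -/
theorem exists_conj_fix {η₁ η₂ : Perm (Fin n)} (hη₁ : ∀ a, k a ≠ a ↔ η₁ a = a) (hη₂ : ∀ a, k a ≠ a ↔ η₂ a = a)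
    (h₁ : η₁ * η₁ = 1) (h₂ : η₂ * η₂ = 1) : ∃ π : Perm (Fin n), (∀ a, k a ≠ a → π a = a) ∧ π * η₂ * π⁻¹ = η₁ := by
  classical
  obtain ⟨τ₁, e₁⟩ := exists_sub (k := k) (σ := η₁) (fun a ha => (hη₁ a).1 ha)
  obtain ⟨τ₂, e₂⟩ := exists_sub (k := k) (σ := η₂) (fun a ha => (hη₂ a).1 ha)
  have hs : η₁.support = η₂.support := by
    ext a
    rw [Perm.mem_support, Perm.mem_support]
    have a1 := hη₁ a
    have a2 := hη₂ a
    tauto
  have hc : IsConj τ₂ τ₁ := by
    rw [Perm.isConj_iff_cycleType_eq, ← Perm.cycleType_ofSubtype, ← Perm.cycleType_ofSubtype, e₁, e₂,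
      cycleType_of_sq h₁, cycleType_of_sq h₂, hs]
  obtain ⟨π, hπ⟩ := isConj_iff.1 hc
  refine ⟨Perm.ofSubtype π, fun a ha => Perm.ofSubtype_apply_of_not_mem π ha, ?_⟩
  rw [← e₁, ← e₂, ← map_mul, ← map_inv, ← map_mul, hπ]

/-- MATCH for `k`, `p`, `q` -/
def Match (t : G) (j : Perm (Fin n) →* G) (k : Perm (Fin n)) (p q : Fin n) : Prop :=
  ∃ g : G, g * t * g⁻¹ = t * j k ∧ g * j k * g⁻¹ = j k ∧
    (g * j (swap p q) * g⁻¹ = j (swap p q) ∨ g * (t * j (swap p q)) * g⁻¹ = t * j (swap p q))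

/-- one of two commuting views: the product `k₁ k₂` seen from `t k₁` -/
theorem half (h : Sp t j) {k₁ w : Perm (Fin n)} (kk : k₁ * k₁ = 1) (k1 : k₁ ≠ 1) (s : Perm.sign k₁ = 1) {g : G}
    (gt : g * t * g⁻¹ = t * j k₁) (gk : g * j k₁ * g⁻¹ = j k₁) (hw : w * w = 1) (hw1 : w ≠ 1)
    (hwk : ∀ a, k₁ a = a → w a = a) (hc : ∃ a b, a * k₁ = k₁ * a ∧ b * k₁ = k₁ * b ∧ ⁅a, b⁆ = w)
    (h4 : 4 ≤ (Finset.univ.filter fun a => k₁ a = a).card)
    (htype : ∀ m, m * m = 1 → m ≠ 1 → Perm.sign m = 1 → IsConj t (t * j m) →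
      (Finset.univ.filter fun a => m a = a).card ≤ (Finset.univ.filter fun a => k₁ a = a).card)
    (hcl : IsConj t (t * j (k₁ * w))) :
    ∃ m, m * m = 1 ∧ m ≠ 1 ∧ Perm.sign m = 1 ∧ g * j m * g⁻¹ = j w ∧ (∀ a, k₁ a = a ↔ m a = a) ∧
      IsConj t (t * j m) := by
  classical
  obtain ⟨a, b, ha, hb, hab⟩ := hc
  obtain ⟨m, hm, hgm⟩ := comm_mem h gt ha hb
  rw [hab] at hgm
  have hmm : m * m = 1 := by
    apply h.inj
    have h1 : g * (j m * j m) * g⁻¹ = 1 := by
      calc g * (j m * j m) * g⁻¹ = (g * j m * g⁻¹) * (g * j m * g⁻¹) := by group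
        _ = 1 := by rw [hgm, ← map_mul, hw, map_one]
    rw [map_mul, map_one]
    calc j m * j m = g⁻¹ * (g * (j m * j m) * g⁻¹) * g := by group
      _ = 1 := by rw [h1]; group
  have hm1 : m ≠ 1 := by
    rintro rfl
    apply hw1
    apply h.inj
    rw [← hgm, map_one]
    group
  have hcl' : IsConj t (t * j m) := by
    refine hcl.trans (isConj_iff.2 ⟨g⁻¹, ?_⟩)
    have h1 : g * (t * j m) * g⁻¹ = t * j (k₁ * w) := by
      calc g * (t * j m) * g⁻¹ = (g * t * g⁻¹) * (g * j m * g⁻¹) := by group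
        _ = t * j (k₁ * w) := by rw [gt, hgm, map_mul, mul_assoc]
    rw [← h1]
    group
  have T := two_of_view h kk k1 s gt gk
  have hcomm : ∀ l ∈ FA k₁, m * l = l * m := by
    intro l hl
    have h1 : (cjh g j) l ∈ (FA k₁).map j := by rw [T.map_eq]; exact mem_map_of_mem _ hl
    obtain ⟨l', hl', e⟩ := h1
    have h2 : w * l' = l' * w := by
      ext y
      rw [Perm.mul_apply, Perm.mul_apply]
      congr 1
      by_cases hy : k₁ y = y
      · have h3 : k₁ (l' y) = l' y := by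
          have h4 := congrArg (fun f : Perm (Fin n) => f y) (FA_comm kk hl')
          simp only [Perm.mul_apply] at h4
          rw [← h4, hy]
        rw [hwk _ h3, hwk _ hy]
      · have h3 : k₁ (w y) ≠ w y := by
          intro h5
          have h6 := hwk _ h5
          have h7 : w y = y := w.injective h6
          rw [h7] at h5
          exact hy h5
        rw [(mem_FA.1 hl').2 y hy, (mem_FA.1 hl').2 _ h3]
    apply h.inj
    have h5 : g * (j m * j l) * g⁻¹ = g * (j l * j m) * g⁻¹ := by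
      calc g * (j m * j l) * g⁻¹ = (g * j m * g⁻¹) * (g * j l * g⁻¹) := by group
        _ = j w * j l' := by rw [hgm, e]; rfl
        _ = j l' * j w := by rw [← map_mul, h2, map_mul]
        _ = (g * j l * g⁻¹) * (g * j m * g⁻¹) := by rw [hgm, e]; rfl
        _ = g * (j l * j m) * g⁻¹ := by group
    rw [map_mul, map_mul]
    exact mul_left_cancel (mul_right_cancel h5)
  have hfix : ∀ a, k₁ a = a → m a = a := fun a ha => fix_of_comm_FA h4 hcomm ha
  have hsub : (Finset.univ.filter fun a => k₁ a = a) ⊆ Finset.univ.filter fun a => m a = a := by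
    intro a ha
    rw [Finset.mem_filter] at ha ⊢
    exact ⟨ha.1, hfix a ha.2⟩
  have heq := Finset.eq_of_subset_of_card_le hsub (htype m hmm hm1 hm hcl')
  refine ⟨m, hmm, hm1, hm, hgm, fun a => ⟨hfix a, fun hma => ?_⟩, hcl'⟩
  have h1 : a ∈ Finset.univ.filter fun a => m a = a := by rw [Finset.mem_filter]; exact ⟨Finset.mem_univ _, hma⟩
  rw [← heq, Finset.mem_filter] at h1
  exact h1.2

/-- **two views with the same `η`** -/
theorem pair (h : Sp t j) {k₁ k₂ : Perm (Fin n)} (kk₁ : k₁ * k₁ = 1) (kk₂ : k₂ * k₂ = 1) (k1 : k₁ ≠ 1)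
    (k2 : k₂ ≠ 1) (s₁ : Perm.sign k₁ = 1) (s₂ : Perm.sign k₂ = 1) (h12 : k₁ * k₂ = k₂ * k₁) (hne : k₁ ≠ k₂)
    (hfix : ∀ a, k₁ a = a ↔ k₂ a = a)
    (hc₁ : ∃ a b, a * k₁ = k₁ * a ∧ b * k₁ = k₁ * b ∧ ⁅a, b⁆ = k₁ * k₂)
    (hc₂ : ∃ a b, a * k₂ = k₂ * a ∧ b * k₂ = k₂ * b ∧ ⁅a, b⁆ = k₁ * k₂)
    (h4 : 4 ≤ (Finset.univ.filter fun a => k₁ a = a).card)
    (htype : ∀ m, m * m = 1 → m ≠ 1 → Perm.sign m = 1 → IsConj t (t * j m) →
      (Finset.univ.filter fun a => m a = a).card ≤ (Finset.univ.filter fun a => k₁ a = a).card)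
    {g₁ g₂ : G} {κ₁ κ₂ η : Perm (Fin n)} {p q : Fin n} (hpq : p ≠ q) (hp : k₁ p = p) (hq : k₁ q = q)
    (gt₁ : g₁ * t * g₁⁻¹ = t * j k₁) (gk₁ : g₁ * j k₁ * g₁⁻¹ = j k₁)
    (gt₂ : g₂ * t * g₂⁻¹ = t * j k₂) (gk₂ : g₂ * j k₂ * g₂⁻¹ = j k₂)
    (hκ₁ : κ₁ = 1 ∨ κ₁ = k₁) (hκ₂ : κ₂ = 1 ∨ κ₂ = k₂)
    (ge₁ : g₁ * j (swap p q) * g₁⁻¹ = j (κ₁ * η)) (ge₂ : g₂ * j (swap p q) * g₂⁻¹ = j (κ₂ * η)) :
    ∃ m, m * m = 1 ∧ m ≠ 1 ∧ Perm.sign m = 1 ∧ IsConj t (t * j m) ∧ m p = p ∧ m q = q ∧ Match t j m p q := by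
  classical
  have hw : k₁ * k₂ * (k₁ * k₂) = 1 := by
    calc k₁ * k₂ * (k₁ * k₂) = k₁ * (k₂ * k₁) * k₂ := by group
      _ = (k₁ * k₁) * (k₂ * k₂) := by rw [← h12]; group
      _ = 1 := by rw [kk₁, kk₂, one_mul]
  have hw1 : k₁ * k₂ ≠ 1 := by
    intro e
    apply hne
    rw [← mul_one k₁, ← kk₂, ← mul_assoc, e, one_mul]
  have hwk : ∀ a, k₁ a = a → (k₁ * k₂) a = a := by
    intro a ha
    rw [Perm.mul_apply, (hfix a).1 ha, ha]
  have hcl₁ : IsConj t (t * j k₁) := isConj_iff.2 ⟨g₁, gt₁⟩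
  have hcl₂ : IsConj t (t * j k₂) := isConj_iff.2 ⟨g₂, gt₂⟩
  have e₁ : k₁ * (k₁ * k₂) = k₂ := by rw [← mul_assoc, kk₁, one_mul]
  have e₂ : k₂ * (k₁ * k₂) = k₁ := by rw [h12, ← mul_assoc, kk₂, one_mul]
  obtain ⟨m, hmm, hm1, hms, hgm, hmf, hmc⟩ := half h kk₁ k1 s₁ gt₁ gk₁ hw hw1 hwk hc₁ h4 htype
    (by rw [e₁]; exact hcl₂)
  have hcard : (Finset.univ.filter fun a => k₂ a = a) = Finset.univ.filter fun a => k₁ a = a := by
    ext a
    rw [Finset.mem_filter, Finset.mem_filter, hfix a]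
  obtain ⟨m', hmm', hm1', hms', hgm', hmf', hmc'⟩ := half h kk₂ k2 s₂ gt₂ gk₂ hw hw1
    (fun a ha => hwk a ((hfix a).2 ha)) hc₂ (by rw [hcard]; exact h4) (by rw [hcard]; exact htype)
    (by rw [e₂]; exact hcl₁)
  -- `x`
  set g : G := g₁⁻¹ * g₂ with hg
  have hconj : ∀ v : G, g * v * g⁻¹ = g₁⁻¹ * (g₂ * v * g₂⁻¹) * g₁ := by
    intro v; rw [hg]; group
  have hxt : g * t * g⁻¹ = t * j m := by
    rw [hconj, gt₂]
    have h1 : g₁ * (t * j m) * g₁⁻¹ = t * j k₂ := by
      calc g₁ * (t * j m) * g₁⁻¹ = (g₁ * t * g₁⁻¹) * (g₁ * j m * g₁⁻¹) := by group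
        _ = t * j k₂ := by rw [gt₁, hgm, mul_assoc, ← map_mul, e₁]
    rw [← h1]
    group
  have hjm : g * j m' * g⁻¹ = j m := by
    rw [hconj, hgm', ← hgm]
    group
  have T : Two t (t * j m) j (cjh g j) m m' :=
    { h := h
      hx := by have := sp_cjh h g; rwa [hxt] at this
      xt := rfl
      kk := hmm
      kk' := hmm'
      jk := hjm.symm
      s := hms
      s' := hms'
      k1 := hm1 }
  have hmp : m p = p := (hmf p).1 hp
  have hmq : m q = q := (hmf q).1 hq
  have hmp' : m' p = p := (hmf' p).1 ((hfix p).1 hp)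
  have hmq' : m' q = q := (hmf' q).1 ((hfix q).1 hq)
  obtain ⟨z, κ, η', hz, hκ, hη', -, -, he, -⟩ := T.core hpq hmp' hmq'
  -- `c`
  have hin : g₁⁻¹ * j k₂ * g₁ = j (k₁ * m) := by
    have h1 : g₁ * j (k₁ * m) * g₁⁻¹ = j k₂ := by
      calc g₁ * j (k₁ * m) * g₁⁻¹ = (g₁ * j k₁ * g₁⁻¹) * (g₁ * j m * g₁⁻¹) := by rw [map_mul]; group
        _ = j k₂ := by rw [gk₁, hgm, ← map_mul, e₁]
    rw [← h1]
    group
  have hin₁ : g₁⁻¹ * j k₁ * g₁ = j k₁ := by
    have h1 : j k₁ = g₁⁻¹ * (g₁ * j k₁ * g₁⁻¹) * g₁ := by group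
    rw [gk₁] at h1
    exact h1.symm
  obtain ⟨c, hc, hcj⟩ : ∃ c : Perm (Fin n), (∀ a, k₁ a = a → c a = a) ∧ g₁⁻¹ * j (κ₂ * κ₁⁻¹) * g₁ = j c := by
    have a1 : ∃ c : Perm (Fin n), (∀ a, k₁ a = a → c a = a) ∧ g₁⁻¹ * j κ₂ * g₁ = j c := by
      rcases hκ₂ with rfl | rfl
      · exact ⟨1, fun _ _ => rfl, by rw [map_one]; group⟩
      · exact ⟨k₁ * m, fun a ha => by rw [Perm.mul_apply, (hmf a).1 ha, ha], hin⟩
    have a2 : ∃ c : Perm (Fin n), (∀ a, k₁ a = a → c a = a) ∧ g₁⁻¹ * j κ₁⁻¹ * g₁ = j c := by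
      rcases hκ₁ with rfl | rfl
      · exact ⟨1, fun _ _ => rfl, by rw [inv_one, map_one]; group⟩
      · exact ⟨κ₁, fun a ha => ha, by rw [inv_eq_of_mul_eq_one_left kk₁]; exact hin₁⟩
    obtain ⟨c, hc, hc'⟩ := a1
    obtain ⟨d, hd, hd'⟩ := a2
    refine ⟨c * d, fun a ha => by rw [Perm.mul_apply, hd a ha, hc a ha], ?_⟩
    rw [map_mul j c, ← hc', ← hd', map_mul]
    group
  have hje : g * j (swap p q) * g⁻¹ = j (c * swap p q) := by
    rw [hconj, ge₂]
    have h1 : j η = j κ₁⁻¹ * (g₁ * j (swap p q) * g₁⁻¹) := by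
      rw [ge₁, ← map_mul, ← mul_assoc, inv_mul_cancel, one_mul]
    rw [map_mul j κ₂, h1, map_mul j c, ← hcj, map_mul j κ₂]
    group
  have he' : z * j (κ * η') = j (c * swap p q) := by rw [← he, ← hje]; rfl
  obtain ⟨hz1, hce⟩ := h.uniq hz he'
  have hκf : ∀ a, k₁ a = a → κ a = a := by
    intro a ha
    rcases hκ with rfl | rfl
    · rfl
    · exact (hmf a).1 ha
  have hη'e : η' = swap p q := by
    ext a
    congr 1
    by_cases ha : k₁ a = a
    · have h1 := congrArg (fun f : Perm (Fin n) => f a) hce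
      simp only [Perm.mul_apply] at h1
      have h2 : k₁ (η' a) = η' a := by
        by_contra h3
        have h5 := hη' (η' a) (fun h6 => h3 ((hmf _).2 h6))
        have h6 := η'.injective h5
        rw [h6] at h3
        exact h3 ha
      have h3 : k₁ (swap p q a) = swap p q a := by
        by_cases b1 : a = p
        · rw [b1, swap_apply_left]; exact hq
        by_cases b2 : a = q
        · rw [b2, swap_apply_right]; exact hp
        rw [swap_apply_of_ne_of_ne b1 b2]; exact ha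
      rw [hκf _ h2, hc _ h3] at h1
      exact h1
    · rw [hη' a (fun h6 => ha ((hmf _).2 h6))]
      rw [swap_apply_of_ne_of_ne]
      · rintro rfl; exact ha hp
      · rintro rfl; exact ha hq
  -- the final element
  obtain ⟨π, hπ⟩ := exists_conj_of_card hmm hmm' (T.supp_eq (by
    have h1 : (Finset.univ.filter fun a => m a = a) = Finset.univ.filter fun a => k₁ a = a := by
      ext a
      rw [Finset.mem_filter, Finset.mem_filter, hmf a]
    rw [h1]
    omega))
  have hπp : m' (π p) = π p := by rw [← hπ]; simp [hmp]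
  have hπq : m' (π q) = π q := by rw [← hπ]; simp [hmq]
  obtain ⟨π', hπ'k, hπ'p, hπ'q⟩ := exists_move (fun e => hpq (π.injective e)) hpq hπp hπq hmp' hmq'
  obtain ⟨ρ, hρ⟩ : ∃ ρ, ρ = π' * π := ⟨_, rfl⟩
  have hρm : ρ * m * ρ⁻¹ = m' := by
    rw [hρ]
    calc π' * π * m * (π' * π)⁻¹ = π' * (π * m * π⁻¹) * π'⁻¹ := by group
      _ = m' := by rw [hπ, hπ'k, mul_inv_cancel_right]
  have hρp : ρ p = p := by rw [hρ]; exact hπ'p
  have hρq : ρ q = q := by rw [hρ]; exact hπ'q
  have hρe : ρ * swap p q * ρ⁻¹ = swap p q := by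
    rw [mul_swap_eq_swap_mul, mul_inv_cancel_right, hρp, hρq]
  refine ⟨m, hmm, hm1, hms, hmc, hmp, hmq, g * j ρ, ?_, ?_, ?_⟩
  · rw [← hxt]
    calc g * j ρ * t * (g * j ρ)⁻¹ = g * (j ρ * t) * (j ρ)⁻¹ * g⁻¹ := by group
      _ = g * (t * j ρ) * (j ρ)⁻¹ * g⁻¹ := by rw [h.comm]
      _ = g * t * g⁻¹ := by group
  · calc g * j ρ * j m * (g * j ρ)⁻¹ = g * j (ρ * m * ρ⁻¹) * g⁻¹ := by
          rw [map_mul j (ρ * m), map_mul j ρ, map_inv]; group
      _ = j m := by rw [hρm, hjm]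
  · have c1 : ∀ w : Perm (Fin n), g * j ρ * j w * (g * j ρ)⁻¹ = g * j (ρ * w * ρ⁻¹) * g⁻¹ := by
      intro w
      rw [map_mul j (ρ * w), map_mul j ρ, map_inv]; group
    refine finish h hmm hm1 hpq hmp hmq ?_ ?_ hz hκ ?_
    · rw [← hxt]
      calc g * j ρ * t * (g * j ρ)⁻¹ = g * (j ρ * t) * (j ρ)⁻¹ * g⁻¹ := by group
        _ = g * (t * j ρ) * (j ρ)⁻¹ * g⁻¹ := by rw [h.comm]
        _ = g * t * g⁻¹ := by group
    · rw [c1, hρm, hjm]
    · rw [c1, hρe, hje, ← he', hη'e]

end Cfsg.Agent.OddHalf.D5.Sym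

end

-- merged: Cfsg.Agent.OddHalf.D5.Sym.Fourteen
section

/-!
# ODD D5, `C_G(t) = ⟨t⟩ × S_n`: the exotic case and `n = 14` (helper59)

`view_or`: if `k` has six fixed points, then MATCH for `k`, or there is a view of `t k` in which a transposition becomes
`κ η`, `κ ∈ ⟨k⟩`, `η` a full involution of `Fix k`. `fourteen`: `n = 14`, all even types have six fixed points.
-/

set_option autoImplicit false

namespace Cfsg.Agent.OddHalf.D5.Sym

open Subgroup Equiv Cfsg.Agent.OddHalf.D5.QPerm Cfsg.Agent.OddHalf.D5.Elem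
open scoped commutatorElement

variable {G : Type*} [Group G] {n : ℕ} {t x : G} {j jx : Perm (Fin n) →* G} {k k' : Perm (Fin n)}

/-- an odd involution on six letters is a transposition or full -/
theorem dich {η : Perm (Fin n)} (hη : ∀ a, k a ≠ a → η a = a) (hh : η * η = 1) (hs : Perm.sign η = -1)
    (h6 : (Finset.univ.filter fun a => k a = a).card = 6) :
    (∃ a b, a ≠ b ∧ k a = a ∧ k b = b ∧ η = swap a b) ∨ ∀ a, k a ≠ a ↔ η a = a := by
  classical
  have hsub : η.support ⊆ Finset.univ.filter fun a => k a = a := by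
    intro a ha
    rw [Perm.mem_support] at ha
    rw [Finset.mem_filter]
    refine ⟨Finset.mem_univ _, ?_⟩
    by_contra h1
    exact ha (hη a h1)
  have hle := Finset.card_le_card hsub
  rw [h6] at hle
  have h1 := cycleType_of_sq hh
  have h2 := Perm.sum_cycleType η
  rw [h1, Multiset.sum_replicate, smul_eq_mul] at h2
  have h3 := Perm.sign_of_cycleType η
  rw [h1, hs, Multiset.sum_replicate, Multiset.card_replicate, smul_eq_mul] at h3
  generalize hm : η.support.card / 2 = m at *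
  have hm3 : m ≤ 3 := by omega
  interval_cases m
  · exact absurd h3 (by decide)
  · left
    have h4 : η.support.card = 2 := by omega
    obtain ⟨a, b, hab, he⟩ := Perm.card_support_eq_two.1 h4
    have h5 : η a ≠ a := by rw [he, swap_apply_left]; exact Ne.symm hab
    have h6 : η b ≠ b := by rw [he, swap_apply_right]; exact hab
    refine ⟨a, b, hab, ?_, ?_, he⟩
    · by_contra h7; exact h5 (hη a h7)
    · by_contra h7; exact h6 (hη b h7)
  · exact absurd h3 (by decide)
  · right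
    have h4 : η.support = Finset.univ.filter fun a => k a = a :=
      Finset.eq_of_subset_of_card_le hsub (by rw [h6]; omega)
    intro a
    have h5 : a ∈ η.support ↔ a ∈ Finset.univ.filter fun a => k a = a := by rw [h4]
    rw [Perm.mem_support, Finset.mem_filter] at h5
    constructor
    · exact hη a
    · intro h6 h7
      exact (h5.2 ⟨Finset.mem_univ _, h7⟩) h6

/-- **the two cases for six fixed points** -/
theorem view_or (hn : 6 ≤ n) (h : Sp t j) (kk : k * k = 1) (k1 : k ≠ 1) (s : Perm.sign k = 1)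
    (hc : IsConj t (t * j k)) (h6 : (Finset.univ.filter fun a => k a = a).card = 6) {p q : Fin n} (hpq : p ≠ q)
    (hp : k p = p) (hq : k q = q) :
    Match t j k p q ∨ ∃ (g : G) (κ η : Perm (Fin n)), g * t * g⁻¹ = t * j k ∧ g * j k * g⁻¹ = j k ∧
      (κ = 1 ∨ κ = k) ∧ η * η = 1 ∧ (∀ a, k a ≠ a ↔ η a = a) ∧ Perm.sign η = -1 ∧
      g * j (swap p q) * g⁻¹ = j (κ * η) := by
  classical
  obtain ⟨g, gt, gk⟩ := exists_view hn h kk k1 s hc (by omega)
  have T := two_of_view h kk k1 s gt gk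
  obtain ⟨z, κ, η, hz, hκ, hη, hηη, sη, he, -⟩ := T.core hpq hp hq
  have ge : g * j (swap p q) * g⁻¹ = z * j (κ * η) := he
  have hz1 := z_one h kk k1 s hpq hp hq gt gk hz hκ hη sη ge
  rcases dich hη hηη sη h6 with ⟨a, b, hab, ha, hb, hswap⟩ | hfull
  · left
    obtain ⟨π, hπk, hπa, hπb⟩ := exists_move hab hpq ha hb hp hq
    have c1 : ∀ w : G, (j π * g) * w * (j π * g)⁻¹ = j π * (g * w * g⁻¹) * (j π)⁻¹ := by
      intro w; group
    have e1 : (j π * g) * t * (j π * g)⁻¹ = t * j k := by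
      rw [c1, gt]
      have : j π * (t * j k) = (t * j k) * j π := by
        rw [← mul_assoc, ← h.comm, mul_assoc, ← map_mul, hπk, map_mul, mul_assoc]
      rw [this, mul_inv_cancel_right]
    have e2 : (j π * g) * j k * (j π * g)⁻¹ = j k := by
      rw [c1, gk, ← map_mul, hπk, map_mul, mul_inv_cancel_right]
    have e3 : (j π * g) * j (swap p q) * (j π * g)⁻¹ = z * j (κ * swap p q) := by
      rw [c1, ge]
      have h3 : j π * (z * j (κ * η)) * (j π)⁻¹ = z * j (π * (κ * η) * π⁻¹) := by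
        rw [map_mul j (π * (κ * η)), map_mul j π, map_inv, ← mul_assoc, ← h.zcomm hz]
        group
      rw [h3]
      congr 2
      rw [hswap]
      have h4 : π * κ = κ * π := by rcases hκ with rfl | rfl <;> [rw [one_mul, mul_one]; exact hπk]
      calc π * (κ * swap a b) * π⁻¹ = (π * κ) * swap a b * π⁻¹ := by group
        _ = κ * (π * swap a b) * π⁻¹ := by rw [h4]; group
        _ = κ * swap p q := by rw [mul_swap_eq_swap_mul, hπa, hπb]; group
    exact ⟨j π * g, e1, e2, finish h kk k1 hpq hp hq e1 e2 hz hκ e3⟩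
  · right
    exact ⟨g, κ, η, gt, gk, hκ, hηη, hfull, sη, by rw [ge, hz1, one_mul]⟩

/-! ### two involutions of type 4 on eight letters -/

/-- `(01)(23)(45)(67)` -/
def f1 : Perm (Fin 8) := swap 0 1 * swap 2 3 * (swap 4 5 * swap 6 7)

/-- `(02)(13)(46)(57)` -/
def f2 : Perm (Fin 8) := swap 0 2 * swap 1 3 * (swap 4 6 * swap 5 7)

def fv : Perm (Fin 8) := swap 0 1 * swap 4 5 * (swap 0 4 * swap 1 5 * (swap 2 6 * swap 3 7)) * (swap 0 1 * swap 4 5)

def fr : Perm (Fin 8) := swap 0 1 * swap 4 5 * (swap 2 4 * swap 4 6 * (swap 3 5 * swap 5 7)) * (swap 0 1 * swap 4 5)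

def fs : Perm (Fin 8) := swap 1 2 * swap 5 6

theorem f_facts : f1 * f1 = 1 ∧ f2 * f2 = 1 ∧ f1 * f2 = f2 * f1 ∧ f1 ≠ f2 ∧ f1 ≠ 1 ∧ f2 ≠ 1 ∧
    (∀ i, f1 i ≠ i) ∧ (∀ i, f2 i ≠ i) := by decide

theorem f_sign : Perm.sign f1 = 1 ∧ Perm.sign f2 = 1 := by
  constructor
  · rw [f1, Perm.sign_mul, Perm.sign_mul, Perm.sign_mul, Perm.sign_swap (by decide), Perm.sign_swap (by decide),
      Perm.sign_swap (by decide), Perm.sign_swap (by decide)]
    decide
  · rw [f2, Perm.sign_mul, Perm.sign_mul, Perm.sign_mul, Perm.sign_swap (by decide), Perm.sign_swap (by decide),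
      Perm.sign_swap (by decide), Perm.sign_swap (by decide)]
    decide

theorem f_comm1 : fv * f1 = f1 * fv ∧ fr * f1 = f1 * fr := by decide

theorem f_comm2 : (fs * fv * fs⁻¹) * f2 = f2 * (fs * fv * fs⁻¹) ∧ (fs * fr * fs⁻¹) * f2 = f2 * (fs * fr * fs⁻¹) := by
  decide +kernel

theorem f_br1 : fv * fr * fv⁻¹ * fr⁻¹ = f1 * f2 := by decide +kernel

theorem f_br2 : (fs * fv * fs⁻¹) * (fs * fr * fs⁻¹) * (fs * fv * fs⁻¹)⁻¹ * (fs * fr * fs⁻¹)⁻¹ = f1 * f2 := by
  decide +kernel

/-- **`n = 14`** -/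
theorem fourteen {j : Perm (Fin 14) →* G} (h : Sp t j) {k₀ : Perm (Fin 14)} (kk₀ : k₀ * k₀ = 1)
    (hs₀ : k₀.support.card = 8) (hc₀ : IsConj t (t * j k₀))
    (htype : ∀ m, m * m = 1 → m ≠ 1 → Perm.sign m = 1 → IsConj t (t * j m) →
      (Finset.univ.filter fun a => m a = a).card ≤ 6) :
    ∃ k p q, k * k = 1 ∧ k ≠ 1 ∧ Perm.sign k = 1 ∧ IsConj t (t * j k) ∧ p ≠ q ∧ k p = p ∧ k q = q ∧
      Match t j k p q := by
  classical
  let c : Fin 8 ↪ Fin 14 := Fin.castLEEmb (by norm_num)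
  let E : Perm (Fin 8) →* Perm (Fin 14) := Perm.viaEmbeddingHom c
  obtain ⟨q1, q2, q3, q4, q5, q6, q7, q8⟩ := f_facts
  have hEinj : Function.Injective E := Perm.viaEmbeddingHom_injective c
  have hEfix : ∀ f : Perm (Fin 8), (∀ i, f i ≠ i) → ∀ a, E f a = a ↔ a ∉ Set.range c := by
    intro f hf a
    constructor
    · rintro h1 ⟨i, rfl⟩
      have h2 : E f (c i) = c (f i) := Perm.viaEmbedding_apply _ _ _
      rw [h2] at h1
      exact hf i (c.injective h1)
    · exact fun h1 => Perm.viaEmbedding_apply_of_notMem _ _ _ h1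
  have hcard : ∀ f : Perm (Fin 8), (∀ i, f i ≠ i) → (E f).support.card = 8 := by
    intro f hf
    have h1 : (E f).support = Finset.univ.map c := by
      ext a
      rw [Perm.mem_support, Finset.mem_map]
      have h2 := hEfix f hf a
      constructor
      · intro h3
        by_contra h4
        apply h3
        rw [h2]
        rintro ⟨i, hi⟩
        exact h4 ⟨i, Finset.mem_univ _, hi⟩
      · rintro ⟨i, -, hi⟩ h3
        exact h2.1 h3 ⟨i, hi⟩
    rw [h1, Finset.card_map, Finset.card_univ, Fintype.card_fin]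
  have hfixcard : ∀ f : Perm (Fin 8), (∀ i, f i ≠ i) → (Finset.univ.filter fun a => E f a = a).card = 6 := by
    intro f hf
    have h1 : (E f).support = Finset.univ.filter fun a => ¬ (E f a = a) := by
      ext a; simp [Perm.mem_support]
    have h2 := hcard f hf
    have h3 := Finset.card_filter_add_card_filter_not (s := Finset.univ) (fun a : Fin 14 => E f a = a)
    rw [← h1, h2, Finset.card_univ, Fintype.card_fin] at h3
    omega
  have hsign : ∀ f : Perm (Fin 8), Perm.sign f = 1 → Perm.sign (E f) = 1 := by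
    intro f hf
    rw [← hf]
    exact sign_via c f
  have hcl : ∀ f : Perm (Fin 8), f * f = 1 → (∀ i, f i ≠ i) → IsConj t (t * j (E f)) := by
    intro f hf hf'
    obtain ⟨π, hπ⟩ := exists_conj_of_card kk₀ (k' := E f) (by rw [← map_mul, hf, map_one]) (by rw [hs₀, hcard f hf'])
    refine hc₀.trans (isConj_iff.2 ⟨j π, ?_⟩)
    rw [← hπ, map_mul, map_mul, map_inv, ← mul_assoc, ← h.comm π]
    group
  have hp8 : (8 : Fin 14) ∉ Set.range c := by
    rintro ⟨i, hi⟩
    have := congrArg Fin.val hi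
    have h2 : ((c i : Fin 14) : ℕ) = i := rfl
    rw [h2] at this
    have h3 := i.2
    simp at this
    omega
  have hp9 : (9 : Fin 14) ∉ Set.range c := by
    rintro ⟨i, hi⟩
    have := congrArg Fin.val hi
    have h2 : ((c i : Fin 14) : ℕ) = i := rfl
    rw [h2] at this
    have h3 := i.2
    simp at this
    omega
  have kk₁ : E f1 * E f1 = 1 := by rw [← map_mul, q1, map_one]
  have kk₂ : E f2 * E f2 = 1 := by rw [← map_mul, q2, map_one]
  have k1 : E f1 ≠ 1 := fun e => q5 (hEinj (by rw [e, map_one]))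
  have k2 : E f2 ≠ 1 := fun e => q6 (hEinj (by rw [e, map_one]))
  have hc1 := hcl f1 q1 q7
  have hc2 := hcl f2 q2 q8
  have hpq : (8 : Fin 14) ≠ 9 := by decide
  rcases view_or (by norm_num) h kk₁ k1 (hsign _ f_sign.1) hc1 (hfixcard f1 q7) hpq ((hEfix f1 q7 8).2 hp8)
    ((hEfix f1 q7 9).2 hp9) with hM | ⟨g₁, κ₁, η₁, gt₁, gk₁, hκ₁, hη₁, hf₁, sη₁, ge₁⟩
  · exact ⟨E f1, 8, 9, kk₁, k1, hsign _ f_sign.1, hc1, hpq, (hEfix f1 q7 8).2 hp8, (hEfix f1 q7 9).2 hp9, hM⟩
  rcases view_or (by norm_num) h kk₂ k2 (hsign _ f_sign.2) hc2 (hfixcard f2 q8) hpq ((hEfix f2 q8 8).2 hp8)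
    ((hEfix f2 q8 9).2 hp9) with hM | ⟨g₂, κ₂, η₂, gt₂, gk₂, hκ₂, hη₂, hf₂, sη₂, ge₂⟩
  · exact ⟨E f2, 8, 9, kk₂, k2, hsign _ f_sign.2, hc2, hpq, (hEfix f2 q8 8).2 hp8, (hEfix f2 q8 9).2 hp9, hM⟩
  have hfix : ∀ a, E f1 a = a ↔ E f2 a = a := fun a => (hEfix f1 q7 a).trans (hEfix f2 q8 a).symm
  obtain ⟨π, hπ, hπη⟩ := exists_conj_fix (k := E f1) (η₁ := η₁) (η₂ := η₂) hf₁
    (fun a => by rw [← hf₂ a, Ne, Ne, hfix a]) hη₁ hη₂
  have hπk : π * E f2 = E f2 * π := by
    refine comm_of_off (S := {a | E f2 a = a}) ?_ (fun a ha => ha)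
    intro a ha
    exact hπ a (fun h1 => ha ((hfix a).1 h1))
  have hπκ : π * κ₂ = κ₂ * π := by
    rcases hκ₂ with rfl | rfl
    · rw [one_mul, mul_one]
    · exact hπk
  have c1 : ∀ w : G, (j π * g₂) * w * (j π * g₂)⁻¹ = j π * (g₂ * w * g₂⁻¹) * (j π)⁻¹ := by
    intro w; group
  have e1 : (j π * g₂) * t * (j π * g₂)⁻¹ = t * j (E f2) := by
    rw [c1, gt₂]
    have : j π * (t * j (E f2)) = (t * j (E f2)) * j π := by
      rw [← mul_assoc, ← h.comm, mul_assoc, ← map_mul, hπk, map_mul, mul_assoc]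
    rw [this, mul_inv_cancel_right]
  have e2 : (j π * g₂) * j (E f2) * (j π * g₂)⁻¹ = j (E f2) := by
    rw [c1, gk₂, ← map_mul, hπk, map_mul, mul_inv_cancel_right]
  have e3 : (j π * g₂) * j (swap 8 9) * (j π * g₂)⁻¹ = j (κ₂ * η₁) := by
    rw [c1, ge₂, ← map_mul, ← map_inv, ← map_mul]
    congr 1
    rw [← hπη]
    calc π * (κ₂ * η₂) * π⁻¹ = (π * κ₂) * η₂ * π⁻¹ := by group
      _ = κ₂ * (π * η₂ * π⁻¹) := by rw [hπκ]; group
  have q3' : E f1 * E f2 = E f2 * E f1 := by rw [← map_mul, q3, map_mul]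
  obtain ⟨m, m1, m2, m3, m4, m5, m6, m7⟩ := pair h kk₁ kk₂ k1 k2 (hsign _ f_sign.1) (hsign _ f_sign.2) q3'
    (fun e => q4 (hEinj e)) hfix
    ⟨E fv, E fr, by rw [← map_mul, f_comm1.1, map_mul], by rw [← map_mul, f_comm1.2, map_mul], by
      rw [commutatorElement_def, ← map_inv, ← map_inv, ← map_mul, ← map_mul, ← map_mul, f_br1, map_mul]⟩
    ⟨E (fs * fv * fs⁻¹), E (fs * fr * fs⁻¹), by rw [← map_mul, f_comm2.1, map_mul],
      by rw [← map_mul, f_comm2.2, map_mul], by
      rw [commutatorElement_def, ← map_inv, ← map_inv, ← map_mul, ← map_mul, ← map_mul, f_br2, map_mul]⟩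
    (by rw [hfixcard f1 q7]; norm_num) (by rw [hfixcard f1 q7]; exact htype) hpq ((hEfix f1 q7 8).2 hp8)
    ((hEfix f1 q7 9).2 hp9) gt₁ gk₁ e1 e2 hκ₁ hκ₂ ge₁ e3
  exact ⟨m, 8, 9, m1, m2, m3, m4, hpq, m5, m6, m7⟩

end Cfsg.Agent.OddHalf.D5.Sym

end

-- merged: Cfsg.Agent.OddHalf.D5.Sym.Ten
section

/-!
# ODD D5, `C_G(t) = ⟨t⟩ × S_n`: `n = 10` and MATCH for all `n ≥ 10` (helper59)

`ten`: `n = 10`, `t k₂ ~ t`, `t k₄ ≁ t`: MATCH for type 2, by the T-formula. `exists_match'`: MATCH for `n ≥ 10`.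
-/

set_option autoImplicit false

namespace Cfsg.Agent.OddHalf.D5.Sym

open Subgroup Equiv Cfsg.Agent.OddHalf.D5.QPerm Cfsg.Agent.OddHalf.D5.Elem
open scoped commutatorElement

variable {G : Type*} [Group G]

/-- parity of a union of classes of involutions of `S_10` -/
theorem parity (P : Perm (Fin 10) → Prop) (hP : ∀ w π, P w → P (π * w * π⁻¹)) (h2 : ∀ w, P w → w * w = 1)
    (h1 : P 1) (h4 : ∀ w, P w → w.support.card ≠ 8) (hev : Even (Nat.card {w // P w})) {u v : Perm (Fin 10)}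
    (hu : u.support.card = 2) (hv : v.support.card = 10) (hu2 : u * u = 1) (hv2 : v * v = 1)
    (huv : P u ↔ P v) : False := by
  classical
  obtain ⟨W, hW⟩ : ∃ W : Finset (Perm (Fin 10)), W = Finset.univ.filter P := ⟨_, rfl⟩
  have hWc : Nat.card {w // P w} = W.card := by rw [Nat.card_eq_fintype_card, Fintype.card_subtype, hW]
  have hmem : ∀ w, w ∈ W ↔ P w := fun w => by rw [hW, Finset.mem_filter]; exact ⟨fun h => h.2, fun h => ⟨Finset.mem_univ _, h⟩⟩
  have hmaps : ∀ w ∈ W, w.support.card / 2 ∈ Finset.range 6 := by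
    intro w _
    rw [Finset.mem_range]
    have h5 : w.support.card ≤ 10 := by
      have := Finset.card_le_univ w.support
      rwa [Fintype.card_fin] at this
    omega
  have hsum := Finset.card_eq_sum_card_fiberwise hmaps
  have heven : ∀ w : Perm (Fin 10), w * w = 1 → w.support.card = 2 * (w.support.card / 2) := by
    intro w hw
    have h5 := Perm.sum_cycleType w
    rw [cycleType_of_sq hw, Multiset.sum_replicate, smul_eq_mul] at h5
    omega
  have key : ∀ (i : ℕ) (w₀ : Perm (Fin 10)), w₀ * w₀ = 1 → w₀.support.card = 2 * i →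
      (P w₀ → (W.filter fun w => w.support.card / 2 = i).card =
        (Finset.univ.filter fun w : Perm (Fin 10) => w.cycleType = Multiset.replicate i 2).card) ∧
      (¬ P w₀ → (W.filter fun w => w.support.card / 2 = i).card = 0) := by
    intro i w₀ hw₀ hi
    constructor
    · intro hPw
      congr 1
      ext w
      rw [Finset.mem_filter, Finset.mem_filter, hmem]
      constructor
      · rintro ⟨h5, h6⟩
        refine ⟨Finset.mem_univ _, ?_⟩
        rw [cycleType_of_sq (h2 w h5), h6]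
      · rintro ⟨-, h5⟩
        have h6 : IsConj w₀ w := by
          rw [Perm.isConj_iff_cycleType_eq, cycleType_of_sq hw₀, hi, h5]
          congr 1
          omega
        obtain ⟨π, hπ⟩ := isConj_iff.1 h6
        refine ⟨hπ ▸ hP _ _ hPw, ?_⟩
        have h7 := Perm.sum_cycleType w
        rw [h5, Multiset.sum_replicate, smul_eq_mul] at h7
        omega
    · intro hPw
      rw [Finset.card_eq_zero, Finset.filter_eq_empty_iff]
      intro w hw h5
      rw [hmem] at hw
      apply hPw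
      obtain ⟨π, hπ⟩ := exists_conj_of_card (h2 w hw) hw₀ (by rw [hi, heven w (h2 w hw), h5])
      rw [← hπ]
      exact hP _ _ hw
  have n0 : (Finset.univ.filter fun w : Perm (Fin 10) => w.cycleType = Multiset.replicate 0 2).card = 1 := by
    rw [Equiv.Perm.card_of_cycleType]; decide +kernel
  have n1 : (Finset.univ.filter fun w : Perm (Fin 10) => w.cycleType = Multiset.replicate 1 2).card = 45 := by
    rw [Equiv.Perm.card_of_cycleType]; decide +kernel
  have n2 : (Finset.univ.filter fun w : Perm (Fin 10) => w.cycleType = Multiset.replicate 2 2).card = 630 := by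
    rw [Equiv.Perm.card_of_cycleType]; decide +kernel
  have n3 : (Finset.univ.filter fun w : Perm (Fin 10) => w.cycleType = Multiset.replicate 3 2).card = 3150 := by
    rw [Equiv.Perm.card_of_cycleType]; decide +kernel
  have n5 : (Finset.univ.filter fun w : Perm (Fin 10) => w.cycleType = Multiset.replicate 5 2).card = 945 := by
    rw [Equiv.Perm.card_of_cycleType]; decide +kernel
  have k0 := (key 0 1 (one_mul 1) (by rw [Perm.support_one, Finset.card_empty])).1 h1
  rw [n0] at k0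
  have k1 := key 1 u hu2 hu
  rw [n1] at k1
  have k2 := key 2 (swap 0 1 * swap 2 3) (by decide +kernel) (by decide +kernel)
  rw [n2] at k2
  have k3 := key 3 (swap 0 1 * swap 2 3 * swap 4 5) (by decide +kernel) (by decide +kernel)
  rw [n3] at k3
  have k4 : (W.filter fun w => w.support.card / 2 = 4).card = 0 := by
    rw [Finset.card_eq_zero, Finset.filter_eq_empty_iff]
    intro w hw h5
    rw [hmem] at hw
    have h6 := heven w (h2 w hw)
    exact h4 w hw (by omega)
  have k5 := key 5 v hv2 hv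
  rw [n5] at k5
  rw [hWc, hsum] at hev
  simp only [Finset.sum_range_succ, Finset.sum_range_zero, zero_add] at hev
  rw [k0, k4] at hev
  have b2 : Even (W.filter fun w => w.support.card / 2 = 2).card := by
    by_cases h : P (swap 0 1 * swap 2 3)
    · rw [k2.1 h]; decide
    · rw [k2.2 h]; decide
  have b3 : Even (W.filter fun w => w.support.card / 2 = 3).card := by
    by_cases h : P (swap 0 1 * swap 2 3 * swap 4 5)
    · rw [k3.1 h]; decide
    · rw [k3.2 h]; decide
  have b15 : Even ((W.filter fun w => w.support.card / 2 = 1).card + (W.filter fun w => w.support.card / 2 = 5).card) := by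
    by_cases h : P u
    · rw [k1.1 h, k5.1 (huv.1 h)]; decide
    · rw [k1.2 h, k5.2 (fun h' => h (huv.2 h'))]; decide
  rw [Nat.even_iff] at hev b2 b3 b15
  omega

variable {t : G} {ι : (⊤ : Subgroup (Perm (Fin 10))) →* G}

theorem isConj_conj {y : G} (hy : ∀ π, jj ι π * y = y * jj ι π) (w π : Perm (Fin 10))
    (hc : IsConj t (y * jj ι w)) : IsConj t (y * jj ι (π * w * π⁻¹)) := by
  refine hc.trans (isConj_iff.2 ⟨jj ι π, ?_⟩)
  rw [map_mul, map_mul, map_inv, ← mul_assoc, hy π]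
  group

theorem sq_of_conj (h : Sp t (jj ι)) {z : G} (hz : z = 1 ∨ z = t) {w : Perm (Fin 10)}
    (hc : IsConj t (z * jj ι w)) : w * w = 1 := by
  obtain ⟨g, hg⟩ := isConj_iff.1 hc
  have h1 : (z * jj ι w) * (z * jj ι w) = 1 := by
    rw [← hg]
    calc g * t * g⁻¹ * (g * t * g⁻¹) = g * (t * t) * g⁻¹ := by group
      _ = 1 := by rw [h.tt]; group
  apply h.inj
  rw [map_mul, map_one]
  calc jj ι w * jj ι w = (z * z) * (jj ι w * jj ι w) := by rw [h.zz hz, one_mul]
    _ = z * (z * jj ι w) * jj ι w := by group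
    _ = z * (jj ι w * z) * jj ι w := by rw [h.zcomm hz]
    _ = (z * jj ι w) * (z * jj ι w) := by group
    _ = 1 := h1

/-- **the two T-formulas for `n = 10`** -/
theorem tform [Finite G] (h : Spl t ⊤ ι) (hG : ∀ H : Subgroup G, H.index ≠ 2)
    (h4 : ∀ w : Perm (Fin 10), Perm.sign w = 1 → IsConj t (t * jj ι w) → w.support.card ≠ 8)
    {u v : Perm (Fin 10)} (hu : u.support.card = 2) (hv : v.support.card = 10) (hu2 : u * u = 1) (hv2 : v * v = 1)
    (hus : Perm.sign u = -1) (hvs : Perm.sign v = -1) :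
    ¬ (IsConj t (t * jj ι u) ↔ IsConj t (t * jj ι v)) ∧ ¬ (IsConj t (jj ι u) ↔ IsConj t (jj ι v)) := by
  classical
  have hsp := sp_of_spl h
  obtain ⟨p, τ, hpτ⟩ := SymOdd.exists_proj h
  have P : SymOdd.Pr t ι p τ := ⟨h, hpτ⟩
  have h8 : ∀ w : Perm (Fin 10), w * w = 1 → w.support.card = 8 → Perm.sign w = 1 := by
    intro w hw h8
    have h3 := Perm.sign_of_cycleType w
    rw [cycleType_of_sq hw, h8, Multiset.sum_replicate, Multiset.card_replicate] at h3
    rw [h3]
    decide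
  have hmem : ∀ (z : G) (_ : z = 1 ∨ z = t) (w : Perm (Fin 10)), z * jj ι w ∈ centralizer ({t} : Set G) := by
    intro z hz w
    rw [mem_centralizer_singleton_iff]
    rcases hz with rfl | rfl
    · rw [one_mul, hsp.comm]
    · rw [mul_assoc, ← hsp.comm w]
  constructor
  · intro huv
    refine parity (fun w => IsConj t (t * jj ι w)) (fun w π hw => isConj_conj (fun π => (hsp.comm π).symm) w π hw)
      (fun w hw => sq_of_conj hsp (Or.inr rfl) hw) (by rw [map_one, mul_one])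
      (fun w hw h5 => h4 w (h8 w (sq_of_conj hsp (Or.inr rfl) hw) h5) hw h5) ?_ hu hv hu2 hv2 huv
    have hev := TForm.even_card_hom hG h.tt τ
    have e : {x : centralizer ({t} : Set G) // τ x = -1 ∧ IsConj t (x : G)} ≃
        {w : Perm (Fin 10) // IsConj t (t * jj ι w)} :=
      { toFun := fun x => ⟨p x.1, by
          have h1 := P.eq x.1
          rw [x.2.1, if_neg (by decide)] at h1
          have h2 := x.2.2
          rw [h1] at h2
          exact h2⟩
        invFun := fun w => ⟨⟨t * jj ι w.1, hmem t (Or.inr rfl) w.1⟩, (P.of_t_iota (a := w.1) rfl).2, w.2⟩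
        left_inv := fun x => by
          have h1 := P.eq x.1
          rw [x.2.1, if_neg (by decide)] at h1
          exact Subtype.ext (Subtype.ext h1.symm)
        right_inv := fun w => Subtype.ext (P.of_t_iota (a := w.1) rfl).1 }
    rwa [Nat.card_congr e] at hev
  · intro huv
    have hneg : (-1 : ℤˣ) ≠ 1 := by decide
    refine parity (fun w => (Perm.sign w = 1 ∧ IsConj t (t * jj ι w)) ∨ (Perm.sign w = -1 ∧ IsConj t (1 * jj ι w)))
      ?_ ?_ (Or.inl ⟨Perm.sign_one, by rw [map_one, mul_one]⟩) ?_ ?_ hu hv hu2 hv2 ?_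
    · rintro w π (⟨hs, hw⟩ | ⟨hs, hw⟩)
      · exact Or.inl ⟨by rw [Perm.sign_mul, Perm.sign_mul, Perm.sign_inv, mul_comm (Perm.sign π), mul_assoc,
          Int.units_mul_self, mul_one, hs], isConj_conj (fun π => (hsp.comm π).symm) w π hw⟩
      · exact Or.inr ⟨by rw [Perm.sign_mul, Perm.sign_mul, Perm.sign_inv, mul_comm (Perm.sign π), mul_assoc,
          Int.units_mul_self, mul_one, hs], isConj_conj (fun π => by rw [mul_one, one_mul]) w π hw⟩
    · rintro w (⟨hs, hw⟩ | ⟨hs, hw⟩)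
      · exact sq_of_conj hsp (Or.inr rfl) hw
      · exact sq_of_conj hsp (Or.inl rfl) hw
    · rintro w (⟨hs, hw⟩ | ⟨hs, hw⟩) h5
      · exact h4 w hs hw h5
      · have h6 := h8 w (sq_of_conj hsp (Or.inl rfl) hw) h5
        rw [h6] at hs
        exact hneg hs.symm
    · have hev := TForm.even_card_hom hG h.tt (τ * Perm.sign.comp p)
      have hval : ∀ x : centralizer ({t} : Set G), (τ * Perm.sign.comp p) x = -1 →
          (τ x = -1 ∧ Perm.sign (p x) = 1 ∧ (x : G) = t * jj ι (p x)) ∨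
          (τ x = 1 ∧ Perm.sign (p x) = -1 ∧ (x : G) = 1 * jj ι (p x)) := by
        intro x hx
        have h1 := P.eq x
        have h3 : τ x * Perm.sign (p x) = -1 := hx
        rcases Int.units_eq_one_or (τ x) with h5 | h5
        · rw [h5, one_mul] at h3
          rw [h5, if_pos rfl] at h1
          exact Or.inr ⟨h5, h3, h1⟩
        · rw [h5, if_neg hneg] at h1
          rw [h5] at h3
          refine Or.inl ⟨h5, ?_, h1⟩
          rcases Int.units_eq_one_or (Perm.sign (p x)) with h6 | h6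
          · exact h6
          · rw [h6] at h3
            exact absurd h3 (by decide)
      have hbij : Function.Bijective (fun x : {x : centralizer ({t} : Set G) //
          (τ * Perm.sign.comp p) x = -1 ∧ IsConj t (x : G)} => (⟨p x.1, by
            rcases hval x.1 x.2.1 with ⟨h5, h6, h7⟩ | ⟨h5, h6, h7⟩
            · exact Or.inl ⟨h6, by rw [← h7]; exact x.2.2⟩
            · exact Or.inr ⟨h6, by rw [← h7]; exact x.2.2⟩⟩ : {w : Perm (Fin 10) //
            (Perm.sign w = 1 ∧ IsConj t (t * jj ι w)) ∨ (Perm.sign w = -1 ∧ IsConj t (1 * jj ι w))})) := by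
        constructor
        · intro x y hxy
          have h9 : p x.1 = p y.1 := congrArg Subtype.val hxy
          apply Subtype.ext
          apply Subtype.ext
          rcases hval x.1 x.2.1 with ⟨h5, h6, h7⟩ | ⟨h5, h6, h7⟩ <;>
          rcases hval y.1 y.2.1 with ⟨h5', h6', h7'⟩ | ⟨h5', h6', h7'⟩
          · rw [h7, h7', h9]
          · rw [h9, h6'] at h6
            exact absurd h6 hneg
          · rw [h9, h6'] at h6
            exact absurd h6.symm hneg
          · rw [h7, h7', h9]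
        · rintro ⟨w, ⟨hs, hw⟩ | ⟨hs, hw⟩⟩
          · have h5 := P.of_t_iota (x := ⟨t * jj ι w, hmem t (Or.inr rfl) w⟩) (a := w) rfl
            refine ⟨⟨⟨t * jj ι w, hmem t (Or.inr rfl) w⟩, ?_, hw⟩, Subtype.ext h5.1⟩
            show τ _ * Perm.sign (p _) = -1
            rw [h5.1, h5.2, hs]; rfl
          · have h5 := P.of_iota (x := ⟨1 * jj ι w, hmem 1 (Or.inl rfl) w⟩) (a := w) (one_mul _)
            refine ⟨⟨⟨1 * jj ι w, hmem 1 (Or.inl rfl) w⟩, ?_, hw⟩, Subtype.ext h5.1⟩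
            show τ _ * Perm.sign (p _) = -1
            rw [h5.1, h5.2, hs]; rfl
      rwa [Nat.card_congr (Equiv.ofBijective _ hbij)] at hev
    · have e1 : ∀ w : Perm (Fin 10), Perm.sign w = -1 → (((Perm.sign w = 1 ∧ IsConj t (t * jj ι w)) ∨
          (Perm.sign w = -1 ∧ IsConj t (1 * jj ι w))) ↔ IsConj t (jj ι w)) := by
        intro w hw
        rw [one_mul]
        constructor
        · rintro (⟨h5, -⟩ | ⟨-, h5⟩)
          · exact absurd (hw.symm.trans h5) hneg
          · exact h5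
        · exact fun h5 => Or.inr ⟨hw, h5⟩
      exact (e1 u hus).trans (huv.trans (e1 v hvs).symm)

/-- **`n = 10`** -/
theorem ten [Finite G] (h : Spl t ⊤ ι) (hG : ∀ H : Subgroup G, H.index ≠ 2)
    (h4 : ∀ w : Perm (Fin 10), Perm.sign w = 1 → IsConj t (t * jj ι w) → w.support.card ≠ 8)
    {k : Perm (Fin 10)} (kk : k * k = 1) (k1 : k ≠ 1) (s : Perm.sign k = 1) (hc : IsConj t (t * jj ι k))
    (h6 : (Finset.univ.filter fun a => k a = a).card = 6) {p q : Fin 10} (hpq : p ≠ q) (hp : k p = p)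
    (hq : k q = q) : Match t (jj ι) k p q := by
  classical
  have hsp := sp_of_spl h
  rcases view_or (by norm_num) hsp kk k1 s hc h6 hpq hp hq with hM | ⟨g, κ, η, gt, gk, hκ, hη, hf, sη, ge⟩
  · exact hM
  exfalso
  have hkη : k * η = η * k := by
    refine (comm_of_off (S := {a | k a = a}) (fun a ha => (hf a).1 ha) (fun a ha => ha)).symm
  have hv : (k * η).support.card = 10 := by
    have h1 : (k * η).support = Finset.univ := by
      ext a
      rw [Perm.mem_support]
      refine ⟨fun _ => Finset.mem_univ _, fun _ => ?_⟩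
      rw [Perm.mul_apply]
      by_cases ha : k a = a
      · intro h5
        have h7 : η a ≠ a := fun h8 => (hf a).2 h8 ha
        have h8 : k (η a) = η a := by
          by_contra h9
          have h10 := (hf _).1 h9
          exact h7 (η.injective h10)
        rw [h8] at h5
        exact h7 h5
      · rw [(hf a).1 ha]
        exact ha
    rw [h1, Finset.card_univ, Fintype.card_fin]
  have hvv : k * η * (k * η) = 1 := by
    calc k * η * (k * η) = k * (η * k) * η := by group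
      _ = (k * k) * (η * η) := by rw [← hkη]; group
      _ = 1 := by rw [kk, hη, one_mul]
  obtain ⟨t1, t2⟩ := tform h hG h4 (u := swap p q) (v := k * η) (Perm.card_support_swap hpq) hv (swap_mul_self p q)
    hvv (Perm.sign_swap hpq) (by rw [Perm.sign_mul, s, sη, one_mul])
  rcases hκ with rfl | rfl
  · apply t1
    have h1 : g * (t * jj ι (swap p q)) * g⁻¹ = t * jj ι (k * η) := by
      calc g * (t * jj ι (swap p q)) * g⁻¹ = (g * t * g⁻¹) * (g * jj ι (swap p q) * g⁻¹) := by group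
        _ = t * jj ι (k * η) := by rw [gt, ge, one_mul, map_mul, mul_assoc]
    have h2 : IsConj (t * jj ι (swap p q)) (t * jj ι (k * η)) := isConj_iff.2 ⟨g, h1⟩
    exact ⟨fun h3 => h3.trans h2, fun h3 => h3.trans h2.symm⟩
  · apply t2
    have h2 : IsConj (jj ι (swap p q)) (jj ι (κ * η)) := isConj_iff.2 ⟨g, ge⟩
    exact ⟨fun h3 => h3.trans h2, fun h3 => h3.trans h2.symm⟩

/-- two fixed points -/
theorem exists_pq {n : ℕ} {k : Perm (Fin n)} (h2 : 2 ≤ (Finset.univ.filter fun a => k a = a).card) :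
    ∃ p q, p ≠ q ∧ k p = p ∧ k q = q := by
  obtain ⟨p, hp, q, hq, hpq⟩ := Finset.one_lt_card.1 (show 1 < _ from h2)
  exact ⟨p, q, hpq, (Finset.mem_filter.1 hp).2, (Finset.mem_filter.1 hq).2⟩

/-- **MATCH for all `n ≥ 10`** -/
theorem exists_match' [Finite G] {n : ℕ} (hn : 10 ≤ n) {ι : (⊤ : Subgroup (Perm (Fin n))) →* G} (h : Spl t ⊤ ι)
    (hG : ∀ H : Subgroup G, H.index ≠ 2)
    (hK : ∀ a : (⊤ : Subgroup (Perm (Fin n))), Perm.sign (a : Perm (Fin n)) = 1 → ¬ IsConj t (ι a)) :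
    ∃ k p q, k * k = 1 ∧ k ≠ 1 ∧ Perm.sign k = 1 ∧ IsConj t (t * jj ι k) ∧ p ≠ q ∧ k p = p ∧ k q = q ∧
      Match t (jj ι) k p q := by
  classical
  have hsp := sp_of_spl h
  by_cases hgood : ∃ k : Perm (Fin n), k * k = 1 ∧ k ≠ 1 ∧ Perm.sign k = 1 ∧ IsConj t (t * jj ι k) ∧
      2 ≤ (Finset.univ.filter fun a => k a = a).card ∧ (Finset.univ.filter fun a => k a = a).card ≠ 6
  · obtain ⟨k, kk, k1, s, hc, h2, h6⟩ := hgood
    obtain ⟨p, q, hpq, hp, hq⟩ := exists_pq h2
    exact ⟨k, p, q, kk, k1, s, hc, hpq, hp, hq, exists_match (by omega) hsp kk k1 s hc hpq hp hq h6⟩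
  have hn' : n = 10 ∨ n = 14 := by
    by_contra hcon
    push Not at hcon
    exact hgood (exists_good (by omega) hcon.2 h hG hK)
  obtain ⟨a, ha, ha1, hta⟩ := SymOdd.exists_even (by omega) h hG hK
  have hta' : IsConj t (t * jj ι (a : Perm (Fin n))) := hta
  push Not at hgood
  rcases hn' with rfl | rfl
  · have hsq : ∀ k : Perm (Fin 10), IsConj t (t * jj ι k) → k * k = 1 := fun k hk =>
      sq_of_conj hsp (Or.inr rfl) hk
    have hk1 : (a : Perm (Fin 10)) ≠ 1 := fun h2 => ha1 (Subtype.ext h2)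
    have hkk := hsq a hta'
    have hfix : ∀ w : Perm (Fin 10), w ≠ 1 → Perm.sign w = 1 → IsConj t (t * jj ι w) →
        (Finset.univ.filter fun a => w a = a).card = 6 := by
      intro w hw1 hws hwc
      have h1 := hsq w hwc
      have h2 := fixed_add_support w
      obtain ⟨b, hb⟩ := four_dvd_support h1 hws
      have h0 : w.support.card ≠ 0 := by
        rw [Finset.card_ne_zero]
        by_contra h9
        rw [Finset.not_nonempty_iff_eq_empty, Perm.support_eq_empty_iff] at h9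
        exact hw1 h9
      have h3 := hgood w h1 hw1 hws hwc
      by_contra h4
      exact h4 (h3 (by omega))
    have h6 := hfix a hk1 ha hta'
    obtain ⟨p, q, hpq, hp, hq⟩ := exists_pq (k := (a : Perm (Fin 10))) (by omega)
    refine ⟨a, p, q, hkk, hk1, ha, hta', hpq, hp, hq, ten h hG ?_ hkk hk1 ha hta' h6 hpq hp hq⟩
    intro w hws hwc h8
    have hw1 : w ≠ 1 := by
      rintro rfl
      rw [Perm.support_one, Finset.card_empty] at h8
      exact absurd h8 (by norm_num)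
    have h2 := fixed_add_support w
    have h3 := hfix w hw1 hws hwc
    omega
  · have hsq : ∀ k : Perm (Fin 14), IsConj t (t * jj ι k) → k * k = 1 := by
      intro k hk
      obtain ⟨g, hg⟩ := isConj_iff.1 hk
      have h1 : (t * jj ι k) * (t * jj ι k) = 1 := by
        rw [← hg]
        calc g * t * g⁻¹ * (g * t * g⁻¹) = g * (t * t) * g⁻¹ := by group
          _ = 1 := by rw [h.tt]; group
      apply hsp.inj
      rw [map_mul, map_one]
      calc jj ι k * jj ι k = (t * t) * (jj ι k * jj ι k) := by rw [h.tt, one_mul]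
        _ = t * (t * jj ι k) * jj ι k := by group
        _ = t * (jj ι k * t) * jj ι k := by rw [hsp.comm]
        _ = (t * jj ι k) * (t * jj ι k) := by group
        _ = 1 := h1
    have hk1 : (a : Perm (Fin 14)) ≠ 1 := fun h2 => ha1 (Subtype.ext h2)
    have hkk := hsq a hta'
    have hfix : ∀ w : Perm (Fin 14), w ≠ 1 → Perm.sign w = 1 → IsConj t (t * jj ι w) →
        (Finset.univ.filter fun a => w a = a).card = 6 := by
      intro w hw1 hws hwc
      have h1 := hsq w hwc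
      have h2 := fixed_add_support w
      obtain ⟨b, hb⟩ := four_dvd_support h1 hws
      have h3 := hgood w h1 hw1 hws hwc
      by_contra h4
      exact h4 (h3 (by omega))
    refine fourteen hsp hkk ?_ hta' ?_
    · have h2 := fixed_add_support (a : Perm (Fin 14))
      have h3 := hfix a hk1 ha hta'
      omega
    · intro m hm hm1 hms hmc
      exact (hfix m hm1 hms hmc).le

end Cfsg.Agent.OddHalf.D5.Sym

end
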